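import Groth.Prelude.Def_SGA7a
import Groth.Agent.S1964
import Groth.Agent.Sga7.H743.HensVal
import Mathlib.FieldTheory.PurelyInseparable.Basic

/-!
# Over a strictly henselian discrete valuation ring every automorphism is in the inertia group
-/

set_option autoImplicit false
set_option linter.unusedSectionVars false

universe u

namespace Groth.Agent.Sga7.H734.Inert

open IsLocalRing

variable {R K Ω : Type u} [CommRing R] [IsDomain R] [IsDiscreteValuationRing R] [HenselianLocalRing R]
  [IsSepClosed (ResidueField R)]
  [Field K] [Algebra R K] [IsFractionRing R K] [Field Ω] [Algebra K Ω] [Algebra.IsSeparable K Ω]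

/-- The case of an integral element. -/
theorem val_sub_lt (W : ValuationSubring Ω) (hW : SGA7.LiesOver K R W) (σ : Ω ≃ₐ[K] Ω) (x : Ω)
    (hx : letI : Algebra R Ω := ((algebraMap K Ω).comp (algebraMap R K)).toAlgebra
      IsIntegral R x) : W.valuation (σ x - x) < 1 := by
  letI : Algebra R Ω := ((algebraMap K Ω).comp (algebraMap R K)).toAlgebra
  have : IsScalarTower R K Ω := IsScalarTower.of_algebraMap_eq fun r => rfl
  let B := integralClosure R Ω
  obtain ⟨hB, hloc, hres⟩ := Groth.Agent.S1964.result R B
  have hpi := (hres ‹_›).2 hloc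
  letI : Algebra (ResidueField R) (ResidueField B) := (ResidueField.map (algebraMap R B)).toAlgebra
  have hpi' : IsPurelyInseparable (ResidueField R) (ResidueField B) := hpi
  -- `B` is contained in `W`, with its maximal ideal
  have hBW : ∀ b : B, (b : Ω) ∈ W := fun b => H743.HensVal.mem_of_isIntegral W hW.1 b.2
  let φ : B →+* W := (algebraMap B Ω).codRestrict W.toSubring hBW
  have hm : ∀ b : B, b ∈ maximalIdeal B → W.valuation (b : Ω) < 1 := by
    let 𝔮 := (maximalIdeal W).comap φ
    letI : Algebra R W := (((algebraMap K Ω).comp (algebraMap R K)).codRestrict W.toSubring hW.1).toAlgebra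
    have h1 : 𝔮.comap (algebraMap R B) = maximalIdeal R := by
      apply le_antisymm
      · apply IsLocalRing.le_maximalIdeal
        rw [Ne, Ideal.comap_eq_top_iff, Ideal.comap_eq_top_iff]
        exact Ideal.IsPrime.ne_top inferInstance
      · intro r hr
        rw [Ideal.mem_comap, Ideal.mem_comap, ValuationSubring.valuation_lt_one_iff]
        exact hW.2 r hr
    have h2 : 𝔮.IsMaximal := by
      apply Ideal.isMaximal_of_isIntegral_of_isMaximal_comap (R := R) 𝔮
      rw [h1]
      infer_instance
    have h3 : 𝔮 = maximalIdeal B := IsLocalRing.eq_maximalIdeal h2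
    intro b hb
    rw [← h3] at hb
    have h4 : φ b ∈ maximalIdeal W := hb
    rwa [ValuationSubring.valuation_lt_one_iff] at h4
  -- the action of `σ` on `B`
  let σB : B →+* B := ((σ : Ω →+* Ω).comp (algebraMap B Ω)).codRestrict (integralClosure R Ω).toSubring (fun b => by
    exact IsIntegral.map (σ.toAlgHom.restrictScalars R) b.2)
  have hσB : ∀ b : B, ((σB b : B) : Ω) = σ (b : Ω) := fun b => rfl
  let σB' : B →+* B := ((σ.symm : Ω →+* Ω).comp (algebraMap B Ω)).codRestrict (integralClosure R Ω).toSubring
    (fun b => by exact IsIntegral.map (σ.symm.toAlgHom.restrictScalars R) b.2)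
  have hσm : ∀ b : B, b ∈ maximalIdeal B → σB b ∈ maximalIdeal B := by
    intro b hb
    rw [mem_maximalIdeal, mem_nonunits_iff] at hb ⊢
    intro hu
    apply hb
    have h1 := hu.map σB'
    have h2 : σB' (σB b) = b := Subtype.ext (σ.symm_apply_apply _)
    rwa [h2] at h1
  let x' : B := ⟨x, hx⟩
  obtain ⟨q, hq⟩ := ExpChar.exists (ResidueField R)
  obtain ⟨n, a, ha⟩ := IsPurelyInseparable.pow_mem (ResidueField R) q (residue B x')
  obtain ⟨r, rfl⟩ := residue_surjective a
  have h1 : x' ^ q ^ n - algebraMap R B r ∈ maximalIdeal B := by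
    rw [← residue_eq_zero_iff, map_sub, map_pow, ← ha, sub_eq_zero]
    rfl
  have h2 : σB x' ^ q ^ n - algebraMap R B r ∈ maximalIdeal B := by
    have := hσm _ h1
    rw [map_sub, map_pow] at this
    have h3 : σB (algebraMap R B r) = algebraMap R B r := Subtype.ext (σ.commutes _)
    rwa [h3] at this
  have h3 : residue B (σB x') ^ q ^ n = residue B x' ^ q ^ n := by
    rw [← sub_eq_zero, ← map_pow (residue B), ← map_pow (residue B), ← map_sub, residue_eq_zero_iff]
    have := Ideal.sub_mem _ h2 h1
    have h4 : σB x' ^ q ^ n - algebraMap R B r - (x' ^ q ^ n - algebraMap R B r) =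
      σB x' ^ q ^ n - x' ^ q ^ n := by ring
    rwa [h4] at this
  have hqB : ExpChar (ResidueField B) q := expChar_of_injective_algebraMap
    (algebraMap (ResidueField R) (ResidueField B)).injective q
  have h4 : residue B (σB x') = residue B x' := by
    apply iterateFrobenius_inj (ResidueField B) q n
    rw [iterateFrobenius_def, iterateFrobenius_def]
    exact h3
  have h5 : σB x' - x' ∈ maximalIdeal B := by
    rw [← residue_eq_zero_iff, map_sub, h4, sub_self]
  exact hm _ h5

/-- `R` strictly henselian: every `K`-automorphism of `Ω` lies in the inertia group at `W`. -/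
theorem isInertia (W : ValuationSubring Ω) (hW : SGA7.LiesOver K R W) (σ : Ω ≃ₐ[K] Ω) :
    SGA7.IsInertia W σ := by
  intro x hx
  refine ⟨H743.HensVal.map_mem (R := R) W hW σ hx, ?_⟩
  letI : Algebra R Ω := ((algebraMap K Ω).comp (algebraMap R K)).toAlgebra
  have : IsScalarTower R K Ω := IsScalarTower.of_algebraMap_eq fun r => rfl
  rcases H743.HensVal.isIntegral_or_inv R K Ω x with h | h
  · exact val_sub_lt W hW σ x h
  · rcases eq_or_ne x 0 with rfl | hx0
    · rw [map_zero, sub_zero, map_zero]
      exact zero_lt_one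
    · have h1 : x⁻¹ ∈ W := H743.HensVal.mem_of_isIntegral W hW.1 h
      have h2 : W.valuation x ≤ 1 := (W.valuation_le_one_iff x).2 hx
      have h3 : W.valuation (σ x) ≤ 1 := (W.valuation_le_one_iff _).2 (H743.HensVal.map_mem (R := R) W hW σ hx)
      have h4 := val_sub_lt W hW σ x⁻¹ h
      have hσx : σ x ≠ 0 := by rwa [Ne, map_eq_zero]
      have h5 : σ x - x = - (x * σ x * (σ x⁻¹ - x⁻¹)) := by
        rw [map_inv₀]
        field_simp
        ring
      rw [h5, Valuation.map_neg, map_mul, map_mul]
      calc W.valuation x * W.valuation (σ x) * W.valuation (σ x⁻¹ - x⁻¹)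
          ≤ 1 * W.valuation (σ x⁻¹ - x⁻¹) := by
            gcongr
            exact mul_le_one' h2 h3
        _ = W.valuation (σ x⁻¹ - x⁻¹) := one_mul _
        _ < 1 := h4

end Groth.Agent.Sga7.H734.Inert
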