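import Groth.Prelude.Def_SGA7IX
import Groth.Agent.S0383
import Groth.Agent.Sga7.H751.PowEtale
import Groth.Agent.Dix.NeronEllPts
import Groth.Agent.Etrest.SHPoint

/-!
# Divisibility of the geometric points of an abelian variety
-/

set_option autoImplicit false
universe u
open CategoryTheory CategoryTheory.Limits AlgebraicGeometry MonObj
open SGA7

namespace Groth.Agent.Sga7.H734.Divis

theorem isStrictlyHenselian_field (Ω : Type u) [Field Ω] [IsSepClosed Ω] : EtCoh.IsStrictlyHenselianLocalRing Ω :=
  ⟨inferInstance, Groth.Agent.Etrest.SHPoint.isSepClosed_residueField Ω⟩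

/-- An abelian variety has divisible groups of points over separably closed fields (for exponents prime to the
characteristic). -/
theorem exists_pow_eq {K Ω : Type u} [Field K] [Field Ω] [Algebra K Ω] [IsSepClosed Ω]
    (A : Over (Spec (CommRingCat.of K))) [GrpObj A] [IsProper A.hom] [GeometricallyIntegral A.hom]
    (n : ℕ) (hn : (n : K) ≠ 0) (x : Pts Ω A) : ∃ y : Pts Ω A, y ^ n = x := by
  have hn1 : 1 ≤ n := Nat.one_le_iff_ne_zero.2 (fun h => hn (by rw [h, Nat.cast_zero]))
  have hsurj := Groth.Agent.S0383.result K A n hn1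
  have hcomm : IsCommMonObj A := isCommMonObj_of_isProper_of_geometricallyIntegral A
  have het : Etale (𝟙 A ^ n).left := H751.PowEtale.etale_pow A n (fun s h => hn (by
    apply (Spec.preimage ((Spec (CommRingCat.of K)).fromSpecResidueField s)).hom.injective
    rw [map_natCast, map_zero]
    exact h))
  let p : pullback (𝟙 A ^ n).left x.left ⟶ Spec (CommRingCat.of Ω) := pullback.snd _ _
  obtain ⟨c, hc⟩ := hsurj.surj (x.left (IsLocalRing.closedPoint Ω))
  obtain ⟨y, hy1, hy2⟩ := Scheme.Pullback.exists_preimage_pullback (f := (𝟙 A ^ n).left) (g := x.left) c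
    (IsLocalRing.closedPoint Ω) hc
  obtain ⟨a, ha, -⟩ := Dix.NeronEllPts.exists_section (isStrictlyHenselian_field Ω) p y hy2 Set.univ isOpen_univ trivial
  have hw : (a ≫ pullback.fst (𝟙 A ^ n).left x.left) ≫ A.hom = (pt (K := K) Ω).hom := by
    have h1 := Over.w (𝟙 A ^ n)
    have h2 := Over.w x
    rw [← h1, Category.assoc, pullback.condition_assoc, ← Category.assoc a, ha, Category.id_comp]
    exact h2
  let z : Pts Ω A := Over.homMk (a ≫ pullback.fst (𝟙 A ^ n).left x.left) hw
  refine ⟨z, ?_⟩
  have h1 : z ^ n = z ≫ (𝟙 A ^ n) := by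
    rw [MonObj.comp_pow, Category.comp_id]
  rw [h1]
  ext1
  show (a ≫ pullback.fst _ _) ≫ (𝟙 A ^ n).left = x.left
  rw [Category.assoc, pullback.condition, ← Category.assoc, ha, Category.id_comp]

end Groth.Agent.Sga7.H734.Divis
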