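import Mathlib.FieldTheory.Galois.Infinite
import Mathlib.FieldTheory.KrullTopology
import Mathlib.FieldTheory.IsSepClosed

/-!
# Fixed fields of open normal subgroups of exponent two
-/

set_option autoImplicit false

namespace Groth.Agent.Sga7.H734.GalTwo

open IntermediateField

variable {K Ω : Type*} [Field K] [Field Ω] [Algebra K Ω] [IsGalois K Ω]

theorem fixingSubgroup_fixedField_of_le (G' : Subgroup (Ω ≃ₐ[K] Ω)) (E : IntermediateField K Ω)
    [FiniteDimensional K E] (hE : E.fixingSubgroup ≤ G') : (fixedField G').fixingSubgroup = G' := by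
  have hopen : IsOpen (E.fixingSubgroup : Set (Ω ≃ₐ[K] Ω)) := E.fixingSubgroup_isOpen
  have h1 : IsOpen (G' : Set (Ω ≃ₐ[K] Ω)) := Subgroup.isOpen_mono hE hopen
  exact InfiniteGalois.fixingSubgroup_fixedField ⟨G', Subgroup.isClosed_of_isOpen G' h1⟩

theorem finiteDimensional_fixedField (G' : Subgroup (Ω ≃ₐ[K] Ω)) (E : IntermediateField K Ω)
    [FiniteDimensional K E] (hE : E.fixingSubgroup ≤ G') : FiniteDimensional K (fixedField G') := by
  have h1 : fixedField G' ≤ E := by
    rw [← InfiniteGalois.fixedField_fixingSubgroup E]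
    exact fixedField_antitone hE
  exact FiniteDimensional.of_injective (IntermediateField.inclusion h1).toLinearMap
    (IntermediateField.inclusion h1).injective

theorem isGalois_fixedField (G' : Subgroup (Ω ≃ₐ[K] Ω)) [G'.Normal] (E : IntermediateField K Ω)
    [FiniteDimensional K E] (hE : E.fixingSubgroup ≤ G') : IsGalois K (fixedField G') := by
  rw [← InfiniteGalois.normal_iff_isGalois, fixingSubgroup_fixedField_of_le G' E hE]
  infer_instance

theorem mul_self_eq_one (G' : Subgroup (Ω ≃ₐ[K] Ω)) [IsGalois K (fixedField G')]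
    (hsq : ∀ g : Ω ≃ₐ[K] Ω, g * g ∈ G') (g : fixedField G' ≃ₐ[K] fixedField G') : g * g = 1 := by
  obtain ⟨σ, rfl⟩ := AlgEquiv.restrictNormalHom_surjective (F := K) (K₁ := fixedField G') Ω g
  rw [← map_mul]
  ext x
  rw [AlgEquiv.restrictNormalHom_apply]
  exact x.2 ⟨σ * σ, hsq σ⟩

theorem restrictScalars_mem (G' : Subgroup (Ω ≃ₐ[K] Ω)) (E : IntermediateField K Ω)
    [FiniteDimensional K E] (hE : E.fixingSubgroup ≤ G') (σ : Ω ≃ₐ[fixedField G'] Ω) :
    σ.restrictScalars K ∈ G' := by
  have h : σ.restrictScalars K ∈ (fixedField G').fixingSubgroup := fun x => σ.commutes x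
  exact (fixingSubgroup_fixedField_of_le G' E hE).le h

end Groth.Agent.Sga7.H734.GalTwo
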