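import Groth.Agent.Sga7.H734.Inert

/-!
# Valuation subrings over the integral closure of `R` in an intermediate field
-/

set_option autoImplicit false
set_option linter.unusedSectionVars false

universe u

namespace Groth.Agent.Sga7.H734.OverInt

open IsLocalRing

variable {R K K' Ω : Type u} [CommRing R] [IsLocalRing R]
  [Field K] [Algebra R K] [Field K'] [Algebra K K'] [Algebra R K'] [IsScalarTower R K K'] [Field Ω] [Algebra K Ω]
  [Algebra K' Ω] [IsScalarTower K K' Ω]

/-- If `W` lies over `R`, it lies over the integral closure of `R` in `K'` (when this is local). -/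
theorem liesOver (W : ValuationSubring Ω) (hW : SGA7.LiesOver K R W) [IsLocalRing (integralClosure R K')] :
    SGA7.LiesOver K' (integralClosure R K') W := by
  letI : Algebra R Ω := ((algebraMap K Ω).comp (algebraMap R K)).toAlgebra
  have : IsScalarTower R K Ω := IsScalarTower.of_algebraMap_eq fun r => rfl
  have hRK' : IsScalarTower R K' Ω := IsScalarTower.of_algebraMap_eq fun r => by
    rw [IsScalarTower.algebraMap_apply R K K', ← IsScalarTower.algebraMap_apply K K' Ω]
    rfl
  let B := integralClosure R K'
  have hBW : ∀ b : B, algebraMap K' Ω (algebraMap B K' b) ∈ W := fun b => by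
    have h1 : IsIntegral R (algebraMap B K' b) := b.2
    exact H743.HensVal.mem_of_isIntegral W hW.1 (h1.map (IsScalarTower.toAlgHom R K' Ω))
  refine ⟨hBW, ?_⟩
  let φ : B →+* W := ((algebraMap K' Ω).comp (algebraMap B K')).codRestrict W.toSubring hBW
  let 𝔮 := (maximalIdeal W).comap φ
  have h1 : 𝔮.comap (algebraMap R B) = maximalIdeal R := by
    apply le_antisymm
    · apply IsLocalRing.le_maximalIdeal
      rw [Ne, Ideal.comap_eq_top_iff, Ideal.comap_eq_top_iff]
      exact Ideal.IsPrime.ne_top inferInstance
    · intro r hr
      rw [Ideal.mem_comap, Ideal.mem_comap, ValuationSubring.valuation_lt_one_iff]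
      have h2 := hW.2 r hr
      have h3 : ((φ (algebraMap R B r) : W) : Ω) = algebraMap K Ω (algebraMap R K r) := by
        change algebraMap K' Ω (algebraMap B K' (algebraMap R B r)) = _
        rw [← IsScalarTower.algebraMap_apply R B K', ← IsScalarTower.algebraMap_apply R K' Ω]
        rfl
      rwa [h3]
  have h2 : 𝔮.IsMaximal := by
    apply Ideal.isMaximal_of_isIntegral_of_isMaximal_comap (R := R) 𝔮
    rw [h1]
    infer_instance
  have h3 : 𝔮 = maximalIdeal B := IsLocalRing.eq_maximalIdeal h2
  intro b hb
  rw [← h3] at hb
  have h4 : φ b ∈ maximalIdeal W := hb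
  rwa [ValuationSubring.valuation_lt_one_iff] at h4

end Groth.Agent.Sga7.H734.OverInt
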