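import Groth.Agent.Sga7.H734.Tors
import Groth.Agent.Sga7.H734.GalTwo
import Groth.Agent.Sga7.H734.OverInt
import Groth.Agent.Sga7.H734.Divis
import Groth.Agent.Sga4h.TameExt

/-!
# Raynaud's criterion in level two from the Galois criterion and quasi-unipotence of level two

`main`: the statement S4053, assuming the statement S4050 (an open subgroup acts with level two) and the implication
`level two ⇒ semistable` of S4048.
-/

set_option autoImplicit false
universe u
open CategoryTheory CategoryTheory.Limits AlgebraicGeometry MonObj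
open SGA7

namespace Groth.Agent.Sga7.H734.Glue

open PtsBC IntermediateField

/-- Level two implies semistable reduction. -/
def SSOfLevelTwo : Prop := ∀ (R K Ω : Type u) [CommRing R] [IsDomain R] [IsDiscreteValuationRing R] [Field K]
    [Algebra R K] [IsFractionRing R K] [Field Ω] [Algebra K Ω] [IsSepClosure K Ω]
    (W : ValuationSubring Ω) (_ : SGA7.LiesOver K R W)
    (ℓ : ℕ) (_ : ℓ.Prime) (_ : (ℓ : IsLocalRing.ResidueField R) ≠ 0)
    (A : Over (Spec (CommRingCat.of K))) [GrpObj A] [IsProper A.hom] [GeometricallyIntegral A.hom],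
    SGA7.InertiaLevelTwoOn W A ℓ → SGA7.HasSemistableReduction R K A

/-- The statement S4050. -/
def OpenLevelTwo : Prop := ∀ (R K Ω : Type u) [CommRing R] [IsDomain R] [IsDiscreteValuationRing R] [Field K]
    [Algebra R K] [IsFractionRing R K] [Field Ω] [Algebra K Ω] [IsSepClosure K Ω]
    (W : ValuationSubring Ω) (_ : SGA7.LiesOver K R W)
    (ℓ : ℕ) (_ : ℓ.Prime) (_ : (ℓ : IsLocalRing.ResidueField R) ≠ 0)
    (A : Over (Spec (CommRingCat.of K))) [GrpObj A] [IsProper A.hom] [GeometricallyIntegral A.hom],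
    ∃ π' : OpenSubgroup (Ω ≃ₐ[K] Ω), ∀ (ν : ℕ) (σ τ : Ω ≃ₐ[K] Ω), σ ∈ π' → τ ∈ π' →
      SGA7.IsInertia W σ → SGA7.IsInertia W τ →
        ∀ x : SGA7.Pts Ω A, x ^ (ℓ ^ ν) = 1 → SGA7.dev σ (SGA7.dev τ x) = 1

theorem natCast_ne_zero {R K : Type u} [CommRing R] [IsDomain R] [IsLocalRing R] [Field K]
    [Algebra R K] [IsFractionRing R K] (n : ℕ) (h : (n : IsLocalRing.ResidueField R) ≠ 0) : (n : K) ≠ 0 := by
  intro h1
  apply h
  have h2 : (n : R) = 0 := by
    apply IsFractionRing.injective R K
    rw [map_natCast, h1, map_zero]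
  rw [← map_natCast (IsLocalRing.residue R), h2, map_zero]

theorem main (h48 : SSOfLevelTwo.{u}) (h50 : OpenLevelTwo.{u})
    (R K Ω : Type u) [CommRing R] [IsDomain R] [IsDiscreteValuationRing R] [Field K]
    [Algebra R K] [IsFractionRing R K] [Field Ω] [Algebra K Ω] [IsSepClosure K Ω]
    (W : ValuationSubring Ω) (hW : SGA7.LiesOver K R W)
    [HenselianLocalRing R] [IsSepClosed (IsLocalRing.ResidueField R)] (h2 : (2 : IsLocalRing.ResidueField R) ≠ 0)
    (A : Over (Spec (CommRingCat.of K))) [GrpObj A] [IsProper A.hom] [GeometricallyIntegral A.hom]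
    (h : SGA7.InertiaTrivialOn W A 2) :
    ∃ (K' : Type u) (_ : Field K') (_ : Algebra K K') (_ : Algebra R K')
      (_ : IsScalarTower R K K') (_ : FiniteDimensional K K') (_ : IsGalois K K'),
      (∀ g : K' ≃ₐ[K] K', g * g = 1) ∧
      SGA7.HasSemistableReduction (integralClosure R K') K'
        (Red.bc (Spec.map (CommRingCat.ofHom (algebraMap K K'))) A) := by
  have hgal : IsGalois K Ω := inferInstance
  have hsc : IsSepClosed Ω := IsSepClosure.sep_closed K
  have hcomm : IsCommMonObj A := isCommMonObj_of_isProper_of_geometricallyIntegral A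
  have hin : ∀ σ : Ω ≃ₐ[K] Ω, IsInertia W σ := Inert.isInertia (R := R) W hW
  have h2' : ((2 : ℕ) : IsLocalRing.ResidueField R) ≠ 0 := by exact_mod_cast h2
  obtain ⟨π', hπ'⟩ := h50 R K Ω W hW 2 Nat.prime_two h2' A
  have hmem : (π' : Set (Ω ≃ₐ[K] Ω)) ∈ nhds (1 : Ω ≃ₐ[K] Ω) := π'.isOpen.mem_nhds π'.one_mem
  obtain ⟨E, hE1, hE2, hE3⟩ := (krullTopology_mem_nhds_one_iff_of_normal K Ω _).1 hmem
  have hEg : IsGalois K E := {}
  have hnormal : E.fixingSubgroup.Normal := (InfiniteGalois.normal_iff_isGalois E).2 hEg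
  have hfin : E.fixingSubgroup.FiniteIndex := ⟨by
    rw [← IntermediateField.finrank_eq_fixingSubgroup_index Ω E]
    exact Module.finrank_pos.ne'⟩
  obtain ⟨G', hG1, hG2, hG3, hG4⟩ := Tors.exists_subgroup (A := A) (Ω := Ω)
    (Divis.exists_pow_eq A 2 (natCast_ne_zero (R := R) 2 h2')) (fun σ x hx => h σ (hin σ) x hx) E.fixingSubgroup
    (fun ν σ hσ τ hτ x hx => hπ' ν σ τ (hE3 hσ) (hE3 hτ) (hin σ) (hin τ) x hx)
  let K' : Type u := fixedField G'
  have hfd : FiniteDimensional K K' := GalTwo.finiteDimensional_fixedField G' E hG2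
  have hgal' : IsGalois K K' := GalTwo.isGalois_fixedField G' E hG2
  let iRK : Algebra R K' := ((algebraMap K K').comp (algebraMap R K)).toAlgebra
  have htow : IsScalarTower R K K' := IsScalarTower.of_algebraMap_eq fun r => rfl
  refine ⟨K', inferInstance, inferInstance, iRK, htow, hfd, hgal', GalTwo.mul_self_eq_one G' hG3, ?_⟩
  have hR : EtCoh.IsStrictlyHenselianLocalRing R := ⟨inferInstance, inferInstance⟩
  have hloc : IsLocalRing (integralClosure R K') := Sga4h.TameExt.isLocalRing R K' hR
  have hdvr : IsDiscreteValuationRing (integralClosure R K') := Sga4h.TameExt.isDiscreteValuationRing R K K' hR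
  have hfr : IsFractionRing (integralClosure R K') K' := Sga4h.TameExt.isFractionRing R K K'
  have hsc' : IsSepClosure K' Ω := ⟨hsc, Algebra.isSeparable_tower_top_of_isSeparable K K' Ω⟩
  have hW' : LiesOver K' (integralClosure R K') W := OverInt.liesOver (K := K) W hW
  have h2'' : ((2 : ℕ) : IsLocalRing.ResidueField (integralClosure R K')) ≠ 0 := by
    obtain ⟨h3, h4, h5⟩ := Groth.Agent.S1964.result R (integralClosure R K')
    intro h6
    apply h2'
    apply (IsLocalRing.ResidueField.map (algebraMap R (integralClosure R K'))).injective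
    rw [map_natCast, map_zero]
    exact h6
  have hp : IsProper (Red.bc (fKK K K') A).hom := by
    dsimp
    infer_instance
  have hgi : GeometricallyIntegral (Red.bc (fKK K K') A).hom := by
    dsimp
    infer_instance
  refine h48 (integralClosure R K') K' Ω W hW' 2 Nat.prime_two h2'' (Red.bc (fKK K K') A) ?_
  intro ν σ τ _ _ x hx
  apply (toK K K' Ω A).injective
  rw [map_one, toK_dev, toK_dev]
  apply hG4 ν _ (GalTwo.restrictScalars_mem G' E hG2 σ) _ (GalTwo.restrictScalars_mem G' E hG2 τ)
  rw [← map_pow, hx, map_one]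

end Groth.Agent.Sga7.H734.Glue
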