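import Groth.Agent.Sga7.H729.Dict

/-!
# Transitivity of base change on points
-/

set_option autoImplicit false
universe u
open CategoryTheory CategoryTheory.Limits AlgebraicGeometry MonObj MonoidalCategory CartesianMonoidalCategory

namespace Groth.Agent.Sga7.H734.BaseTrans

open Groth.Agent.Sga7.H729.Dict

variable {S S₁ S' : Scheme.{u}} (φ₁ : S₁ ⟶ S) (ψ : S' ⟶ S₁) (φ' : S' ⟶ S) (h : φ' = ψ ≫ φ₁) (A : Over S) [GrpObj A]

/-- The projection `A ×_S S' → A ×_S S₁`. -/
noncomputable def proj : (Over.map ψ).obj (Red.bc φ' A) ⟶ Red.bc φ₁ A :=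
  Over.homMk (pullback.lift (pullback.fst A.hom φ') (pullback.snd A.hom φ' ≫ ψ) (by
    rw [pullback.condition, h, Category.assoc])) (pullback.lift_snd _ _ _)

theorem proj_left_fst : (proj φ₁ ψ φ' h A).left ≫ pullback.fst A.hom φ₁ = pullback.fst A.hom φ' :=
  pullback.lift_fst _ _ _

/-- The comparison of the two ways to consider `T` as an `S`-scheme. -/
noncomputable def kap (T : Over S') : (Over.map φ₁).obj ((Over.map ψ).obj T) ≅ (Over.map φ').obj T :=
  Over.isoMk (Iso.refl _) (by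
    rw [Iso.refl_hom, Category.id_comp]
    show T.hom ≫ φ' = (T.hom ≫ ψ) ≫ φ₁
    rw [h, Category.assoc])

theorem bcPts_proj {T : Over S'} (x : T ⟶ Red.bc φ' A) :
    bcPts φ₁ A _ ((Over.map ψ).map x ≫ proj φ₁ ψ φ' h A) = (kap φ₁ ψ φ' h T).hom ≫ bcPts φ' A T x := by
  ext1
  rw [bcPts_left, Over.comp_left, Over.comp_left, bcPts_left, Category.assoc, proj_left_fst]
  exact (Category.id_comp _).symm

theorem proj_mul (T : Over S') (x y : T ⟶ Red.bc φ' A) :
    (Over.map ψ).map (x * y) ≫ proj φ₁ ψ φ' h A =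
      ((Over.map ψ).map x ≫ proj φ₁ ψ φ' h A) * ((Over.map ψ).map y ≫ proj φ₁ ψ φ' h A) := by
  apply (bcPts φ₁ A _).injective
  rw [bcPts_proj, map_mul, map_mul, MonObj.comp_mul, bcPts_proj, bcPts_proj]

theorem proj_inj {T : Over S'} {x y : T ⟶ Red.bc φ' A}
    (hxy : (Over.map ψ).map x ≫ proj φ₁ ψ φ' h A = (Over.map ψ).map y ≫ proj φ₁ ψ φ' h A) : x = y := by
  apply (bcPts φ' A _).injective
  rw [← cancel_epi (kap φ₁ ψ φ' h T).hom, ← bcPts_proj, ← bcPts_proj, hxy]

end Groth.Agent.Sga7.H734.BaseTrans
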