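import Groth.Agent.Sga7.H734.SerreTwo
import Mathlib.GroupTheory.Index
import Mathlib.GroupTheory.OrderOfElement
import Mathlib.GroupTheory.QuotientGroup.Basic
import Mathlib.Algebra.Module.NatInt
import Mathlib.Algebra.Ring.Subring.Basic
import Mathlib.Algebra.Group.Action.Basic

/-!
# Group actions on `2`-divisible groups which are trivial on the `2`-torsion

`G` acts additively on a `2`-divisible `2`-primary abelian group `M`, trivially on `M[2]`, and the operators
`(σ - 1)(τ - 1)` vanish for `σ, τ` in a normal subgroup `N` of finite index.  Then there is a normal subgroup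
`G'' ⊇ N` such that `g ^ 2 ∈ G''` for all `g ∈ G` and `(σ - 1)(τ - 1) = 0` for `σ, τ ∈ G''`.
-/

set_option autoImplicit false

namespace Groth.Agent.Sga7.H734.ExpTwo

/-- An additive automorphism (or endomorphism) of finite order of a `2`-divisible `2`-primary group which is trivial on
the `2`-torsion has square one. -/
theorem sq_apply {D : Type*} [AddCommGroup D] (hdiv : ∀ x : D, ∃ y, 2 • y = x)
    (htor : ∀ x : D, ∃ n : ℕ, (2 ^ n) • x = 0) (u : AddMonoid.End D) (m : ℕ) (hm : 0 < m) (hu : u ^ m = 1)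
    (h2 : ∀ x : D, 2 • x = 0 → u x = x) (x : D) : u (u x) = x := by
  have hdivn : ∀ (n : ℕ) (x : D), ∃ y, (2 ^ n) • y = x := by
    intro n
    induction n with
    | zero => intro x; exact ⟨x, by simp⟩
    | succ n ih =>
      intro x
      obtain ⟨y, rfl⟩ := hdiv x
      obtain ⟨z, rfl⟩ := ih y
      exact ⟨z, by rw [pow_succ, mul_comm, mul_smul]⟩
  have hmul : ∀ (k : ℕ) (v : AddMonoid.End D) (x : D), ((k : AddMonoid.End D) * v) x = k • v x := by
    intro k v x
    rfl
  have h2' : ∀ v : AddMonoid.End D, 2 * v = 0 → v = 0 := by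
    intro v hv
    ext x
    obtain ⟨y, rfl⟩ := hdiv x
    rw [map_nsmul]
    have := hmul 2 v y
    rw [Nat.cast_ofNat, hv] at this
    exact this.symm
  have hsep : ∀ v : AddMonoid.End D, (∀ n : ℕ, ∃ w, v = 2 ^ n * w) → v = 0 := by
    intro v hv
    ext x
    obtain ⟨n, hn⟩ := htor x
    obtain ⟨w, rfl⟩ := hv n
    have := hmul (2 ^ n) w x
    rw [Nat.cast_pow, Nat.cast_ofNat] at this
    rw [this, ← map_nsmul, hn, map_zero]
    rfl
  -- `u - 1` is divisible by two
  have hb : ∃ b : AddMonoid.End D, u = 1 + 2 * b := by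
    choose s hs using hdiv
    have hwd : ∀ a b : D, 2 • a = 2 • b → u a - a = u b - b := by
      intro a b hab
      have h1 : 2 • (a - b) = 0 := by rw [smul_sub, hab, sub_self]
      have h3 := h2 _ h1
      rw [map_sub] at h3
      have : u a - u b - (a - b) = 0 := sub_eq_zero.2 h3
      rw [← sub_eq_zero]
      rw [← this]
      abel
    let b : AddMonoid.End D := AddMonoidHom.mk' (fun x => u (s x) - s x) (by
      intro x y
      have h1 : 2 • s (x + y) = 2 • (s x + s y) := by rw [hs, smul_add, hs, hs]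
      rw [hwd _ _ h1, map_add]
      abel)
    refine ⟨b, ?_⟩
    ext x
    change u x = x + (2 * b : AddMonoid.End D) x
    have h1 := hmul 2 b x
    rw [Nat.cast_ofNat] at h1
    rw [h1]
    have h3 : b x = u (s x) - s x := rfl
    rw [h3, smul_sub, ← map_nsmul, hs]
    abel
  obtain ⟨b, rfl⟩ := hb
  have := SerreTwo.sq_eq_one h2' hsep b m hm hu
  rw [pow_two] at this
  have h4 := congrArg (fun f : AddMonoid.End D => f x) this
  exact h4

section action

variable {G M : Type*} [Group G] [AddCommGroup M] [DistribMulAction G M]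

theorem exists_subgroup (N : Subgroup G) [N.Normal] [N.FiniteIndex]
    (hdiv : ∀ x : M, ∃ y, 2 • y = x) (htor : ∀ x : M, ∃ n : ℕ, (2 ^ n) • x = 0)
    (h2 : ∀ (g : G) (x : M), 2 • x = 0 → g • x = x)
    (hN : ∀ σ ∈ N, ∀ τ ∈ N, ∀ x : M, σ • (τ • x - x) - (τ • x - x) = 0) :
    ∃ G' : Subgroup G, G'.Normal ∧ N ≤ G' ∧ (∀ g : G, g * g ∈ G') ∧
      ∀ σ ∈ G', ∀ τ ∈ G', ∀ x : M, σ • (τ • x - x) - (τ • x - x) = 0 := by
  -- `D` is generated by the `(τ - 1) M`, `τ ∈ N`
  let D : AddSubgroup M := AddSubgroup.closure {y | ∃ τ ∈ N, ∃ x : M, y = τ • x - x}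
  have hDg : ∀ (g : G) (y : M), y ∈ D → g • y ∈ D := by
    intro g y hy
    induction hy using AddSubgroup.closure_induction with
    | mem y hy =>
      obtain ⟨τ, hτ, x, rfl⟩ := hy
      apply AddSubgroup.subset_closure
      refine ⟨g * τ * g⁻¹, ‹N.Normal›.conj_mem τ hτ g, g • x, ?_⟩
      rw [smul_sub, ← mul_smul, ← mul_smul, inv_mul_cancel_right]
    | zero => rw [smul_zero]; exact D.zero_mem
    | add x y _ _ hx hy => rw [smul_add]; exact D.add_mem hx hy
    | neg x _ hx => rw [smul_neg]; exact D.neg_mem hx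
  have hDdiv : ∀ y ∈ D, ∃ z ∈ D, 2 • z = y := by
    intro y hy
    induction hy using AddSubgroup.closure_induction with
    | mem y hy =>
      obtain ⟨τ, hτ, x, rfl⟩ := hy
      obtain ⟨x', rfl⟩ := hdiv x
      refine ⟨τ • x' - x', AddSubgroup.subset_closure ⟨τ, hτ, x', rfl⟩, ?_⟩
      rw [smul_sub, smul_comm]
    | zero => exact ⟨0, D.zero_mem, smul_zero _⟩
    | add x y _ _ hx hy =>
      obtain ⟨a, ha, rfl⟩ := hx
      obtain ⟨b, hb, rfl⟩ := hy
      exact ⟨a + b, D.add_mem ha hb, smul_add _ _ _⟩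
    | neg x _ hx =>
      obtain ⟨a, ha, rfl⟩ := hx
      exact ⟨-a, D.neg_mem ha, smul_neg _ _⟩
  have hND : ∀ σ ∈ N, ∀ y ∈ D, σ • y = y := by
    intro σ hσ y hy
    induction hy using AddSubgroup.closure_induction with
    | mem y hy =>
      obtain ⟨τ, hτ, x, rfl⟩ := hy
      exact sub_eq_zero.1 (hN σ hσ τ hτ x)
    | zero => rw [smul_zero]
    | add x y _ _ hx hy => rw [smul_add, hx, hy]
    | neg x _ hx => rw [smul_neg, hx]
  have hNM : ∀ σ ∈ N, ∀ x : M, σ • x - x ∈ D := fun σ hσ x =>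
    AddSubgroup.subset_closure ⟨σ, hσ, x, rfl⟩
  -- some power of each element lies in `N`
  have hpow : ∀ g : G, ∃ m : ℕ, 0 < m ∧ g ^ m ∈ N := by
    intro g
    exact ⟨N.index, Nat.pos_of_ne_zero Subgroup.FiniteIndex.index_ne_zero, N.pow_index_mem g⟩
  -- action on `D`
  have hD2 : ∀ (g : G) (y : M), y ∈ D → g • (g • y) = y := by
    intro g y hy
    obtain ⟨m, hm, hgm⟩ := hpow g
    let u : AddMonoid.End D := AddMonoidHom.mk' (fun y => ⟨g • y.1, hDg g _ y.2⟩) (by
      intro x y
      exact Subtype.ext (smul_add _ _ _))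
    have hu : ∀ (n : ℕ) (y : D), ((u ^ n) y).1 = g ^ n • y.1 := by
      intro n
      induction n with
      | zero => intro y; simp
      | succ n ih =>
        intro y
        rw [pow_succ', pow_succ', mul_smul, ← ih]
        rfl
    have h := sq_apply (D := D) (fun x => by
        obtain ⟨z, hz, hz2⟩ := hDdiv x.1 x.2
        exact ⟨⟨z, hz⟩, Subtype.ext hz2⟩) (fun x => by
        obtain ⟨n, hn⟩ := htor x.1
        exact ⟨n, Subtype.ext hn⟩) u m hm (by
        ext y
        rw [hu]
        exact hND _ hgm _ y.2) (fun x hx => Subtype.ext (h2 g x.1 (congrArg Subtype.val hx))) ⟨y, hy⟩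
    exact congrArg Subtype.val h
  -- action on `M / D`
  have hM2 : ∀ (g : G) (x : M), g • (g • x) - x ∈ D := by
    intro g x
    obtain ⟨m, hm, hgm⟩ := hpow g
    let u : AddMonoid.End (M ⧸ D) := QuotientAddGroup.map D D (DistribSMul.toAddMonoidHom M g)
      (fun y hy => hDg g y hy)
    have hu1 : ∀ x : M, u (QuotientAddGroup.mk x) = QuotientAddGroup.mk (g • x) := fun x => rfl
    have hu : ∀ (n : ℕ) (x : M), (u ^ n) (QuotientAddGroup.mk x : M ⧸ D) = QuotientAddGroup.mk (g ^ n • x) := by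
      intro n
      induction n with
      | zero => intro y; simp
      | succ n ih =>
        intro y
        rw [pow_succ', pow_succ', mul_smul]
        change u ((u ^ n) (QuotientAddGroup.mk y)) = _
        rw [ih, hu1]
    have h := sq_apply (D := M ⧸ D) (fun q => by
        obtain ⟨x, rfl⟩ := QuotientAddGroup.mk_surjective q
        obtain ⟨y, rfl⟩ := hdiv x
        exact ⟨QuotientAddGroup.mk y, rfl⟩) (fun q => by
        obtain ⟨x, rfl⟩ := QuotientAddGroup.mk_surjective q
        obtain ⟨n, hn⟩ := htor x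
        refine ⟨n, ?_⟩
        rw [← QuotientAddGroup.mk_nsmul, hn]
        rfl) u m hm (by
        ext q
        obtain ⟨x, rfl⟩ := QuotientAddGroup.mk_surjective q
        change (u ^ m) (QuotientAddGroup.mk x) = QuotientAddGroup.mk x
        rw [hu, QuotientAddGroup.eq]
        have := hNM _ hgm x
        have h5 := D.neg_mem this
        have h6 : -(g ^ m • x - x) = -(g ^ m • x) + x := by abel
        rwa [h6] at h5) (fun q hq => by
        obtain ⟨x, rfl⟩ := QuotientAddGroup.mk_surjective q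
        rw [← QuotientAddGroup.mk_nsmul, QuotientAddGroup.eq_zero_iff] at hq
        obtain ⟨z, hz, hz2⟩ := hDdiv _ hq
        have h5 : 2 • (x - z) = 0 := by rw [smul_sub, hz2, sub_self]
        have h6 := h2 g _ h5
        rw [smul_sub] at h6
        rw [hu1, QuotientAddGroup.eq]
        have h7 : -(g • x) + x = z - g • z := by
          rw [sub_eq_iff_eq_add] at h6
          rw [h6]
          abel
        rw [h7]
        exact D.sub_mem hz (hDg g z hz)) (QuotientAddGroup.mk x)
    rw [hu1, hu1, QuotientAddGroup.eq] at h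
    have h5 := D.neg_mem h
    have h6 : -(-(g • g • x) + x) = g • g • x - x := by abel
    rwa [h6] at h5
  let G' : Subgroup G :=
    { carrier := {g | (∀ y ∈ D, g • y = y) ∧ ∀ x : M, g • x - x ∈ D}
      mul_mem' := by
        rintro a b ⟨ha1, ha2⟩ ⟨hb1, hb2⟩
        refine ⟨fun y hy => by rw [mul_smul, hb1 y hy, ha1 y hy], fun x => ?_⟩
        have : (a * b) • x - x = a • (b • x - x) + (a • x - x) := by
          rw [mul_smul, smul_sub]; abel
        rw [this]
        exact D.add_mem (hDg a _ (hb2 x)) (ha2 x)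
      one_mem' := ⟨fun y _ => one_smul _ _, fun x => by rw [one_smul, sub_self]; exact D.zero_mem⟩
      inv_mem' := by
        rintro a ⟨ha1, ha2⟩
        refine ⟨fun y hy => by rw [inv_smul_eq_iff, ha1 y hy], fun x => ?_⟩
        have : a⁻¹ • x - x = -(a⁻¹ • (a • x - x)) := by
          rw [smul_sub, inv_smul_smul]; abel
        rw [this]
        exact D.neg_mem (hDg _ _ (ha2 x)) }
  refine ⟨G', ⟨?_⟩, ?_, ?_, ?_⟩
  · rintro a ⟨ha1, ha2⟩ g
    refine ⟨fun y hy => ?_, fun x => ?_⟩
    · rw [mul_smul, mul_smul, ha1 _ (hDg _ _ hy), smul_inv_smul]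
    · have : (g * a * g⁻¹) • x - x = g • (a • (g⁻¹ • x) - g⁻¹ • x) := by
        rw [smul_sub, smul_inv_smul, mul_smul, mul_smul]
      rw [this]
      exact hDg _ _ (ha2 _)
  · intro σ hσ
    exact ⟨fun y hy => hND σ hσ y hy, fun x => hNM σ hσ x⟩
  · intro g
    refine ⟨fun y hy => ?_, fun x => ?_⟩
    · rw [mul_smul]; exact hD2 g y hy
    · rw [mul_smul]; exact hM2 g x
  · rintro σ ⟨hσ1, -⟩ τ ⟨-, hτ2⟩ x
    rw [sub_eq_zero]
    exact hσ1 _ (hτ2 x)

end action

end Groth.Agent.Sga7.H734.ExpTwo
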