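import Mathlib.AlgebraicGeometry.AlgClosed.Basic
import Mathlib.AlgebraicGeometry.Morphisms.QuasiFinite
import Mathlib.FieldTheory.IsAlgClosed.AlgebraicClosure

/-!
# A scheme of finite type over a field with finitely many geometric points is finite
-/

set_option autoImplicit false
universe u
open CategoryTheory CategoryTheory.Limits AlgebraicGeometry

namespace Groth.Agent.Sga7.H734.FinKer

/-- Over an algebraically closed field: finitely many rational points imply a finite space. -/
theorem finite_of_points {Ω : Type u} [Field Ω] [IsAlgClosed Ω] {X : Scheme.{u}}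
    (f : X ⟶ Spec (CommRingCat.of Ω)) [LocallyOfFiniteType f]
    (h : Finite {p : Spec (CommRingCat.of Ω) ⟶ X // p ≫ f = 𝟙 _}) : Finite X := by
  have h1 : Finite (closedPoints X) := Finite.of_equiv _ (pointEquivClosedPoint f)
  have h2 : JacobsonSpace X := LocallyOfFiniteType.jacobsonSpace f
  have h3 : (closedPoints X).Finite := Set.toFinite _
  have h4 : DiscreteTopology X := JacobsonSpace.discreteTopology h3
  have h5 : closedPoints X = Set.univ := closedPoints_eq_univ
  rw [h5] at h3
  exact Set.finite_univ_iff.mp h3

theorem isFinite_of_points {K Ω : Type u} [Field K] [Field Ω] [IsAlgClosed Ω]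
    (t : Spec (CommRingCat.of Ω) ⟶ Spec (CommRingCat.of K)) {X : Scheme.{u}}
    (f : X ⟶ Spec (CommRingCat.of K)) [LocallyOfFiniteType f] [QuasiCompact f]
    (h : Finite {p : Spec (CommRingCat.of Ω) ⟶ X // p ≫ f = t}) : IsFinite f := by
  have h1 : Finite (pullback f t : Scheme.{u}) := by
    refine finite_of_points (pullback.snd f t) ?_
    refine Finite.of_injective (β := {p : Spec (CommRingCat.of Ω) ⟶ X // p ≫ f = t})
      (fun p => ⟨p.1 ≫ pullback.fst f t, by
        rw [Category.assoc, pullback.condition, ← Category.assoc, p.2, Category.id_comp]⟩) ?_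
    intro p q hpq
    apply Subtype.ext
    apply pullback.hom_ext
    · exact congrArg Subtype.val hpq
    · rw [p.2, q.2]
  have h2 : Surjective (pullback.fst f t) := by
    have : Surjective t := ⟨fun x => ⟨IsLocalRing.closedPoint Ω, Subsingleton.elim _ _⟩⟩
    infer_instance
  have h3 : Finite X := Finite.of_surjective _ h2.surj
  have h4 : LocallyQuasiFinite f := LocallyQuasiFinite.of_finite_preimage_singleton f fun x => Set.toFinite _
  exact IsFinite.of_locallyQuasiFinite f

end Groth.Agent.Sga7.H734.FinKer
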