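import Groth.Prelude.Def_SGA7IX
import Groth.Prelude.Def_AlgGrp

/-!
# Extension of homomorphisms to Neron models
-/

set_option autoImplicit false
universe u
open CategoryTheory CategoryTheory.Limits AlgebraicGeometry MonObj MonoidalCategory CartesianMonoidalCategory

namespace Groth.Agent.Sga7.H734.NerHom

/-- A morphism of group objects multiplicative on the universal points is a homomorphism. -/
theorem isMonHom_of_mul {D : Type*} [Category D] [CartesianMonoidalCategory D] {G H : D} [GrpObj G] [GrpObj H]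
    (w : G ⟶ H) (h : (fst G G * snd G G) ≫ w = (fst G G ≫ w) * (snd G G ≫ w)) : IsMonHom w := by
  have hm : μ ≫ w = (w ⊗ₘ w) ≫ μ := by
    rw [Hom.mul_def, Hom.mul_def, lift_fst_snd, Category.id_comp] at h
    rw [h]
    congr 1
    apply CartesianMonoidalCategory.hom_ext
    · simp
    · simp
  refine ⟨?_, hm⟩
  have h2 : ((1 : 𝟙_ D ⟶ G) * 1) ≫ w = (1 ≫ w) * (1 ≫ w) := by
    rw [Hom.mul_def, Category.assoc, hm, Hom.mul_def, ← Category.assoc]
    congr 1
    apply CartesianMonoidalCategory.hom_ext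
    · simp
    · simp
  rw [_root_.mul_one] at h2
  have h3 : (1 : 𝟙_ D ⟶ G) ≫ w = 1 := mul_eq_left.1 h2.symm
  rw [Hom.one_def, Hom.one_def] at h3
  have h4 : toUnit (𝟙_ D) = 𝟙 _ := toUnit_unique _ _
  rwa [h4, Category.id_comp, Category.id_comp] at h3

/-- Extension of homomorphisms to a Neron model. -/
theorem exists_hom {R K : Type u} [CommRing R] [Field K] [Algebra R K] (N N' : Over (Spec (CommRingCat.of R)))
    [GrpObj N] [GrpObj N'] (hN : Smooth N.hom) (hN' : SGA7.IsNeron R K N')
    (w : (SGA7.genFib R K).obj N ⟶ (SGA7.genFib R K).obj N') [IsMonHom w] :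
    ∃ v : N ⟶ N', (SGA7.genFib R K).map v = w ∧ IsMonHom v := by
  obtain ⟨v, hv⟩ := (hN'.2.2.2 N hN).2 w
  refine ⟨v, hv, isMonHom_of_mul v ?_⟩
  have hs : Smooth (N ⊗ N).hom := by dsimp; infer_instance
  apply (hN'.2.2.2 (N ⊗ N) hs).1
  change (SGA7.genFib R K).map _ = (SGA7.genFib R K).map _
  have hv' : (SGA7.genFib R K).map v = w := hv
  rw [Functor.map_comp, Functor.map_mul, Functor.map_mul, Functor.map_comp, Functor.map_comp, hv', MonObj.mul_comp]

/-- The kernel of a homomorphism to a separated group is a closed immersion. -/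
theorem isClosedImmersion_ker {S : Scheme.{u}} {N G Q : Over S} [GrpObj Q] (n : N ⟶ G) (f : G ⟶ Q)
    (h : AlgGrp.IsKernel n f) [IsSeparated Q.hom] : IsClosedImmersion n.left := by
  have h1 : IsClosedImmersion (η[Q] : 𝟙_ (Over S) ⟶ Q).left := by
    have h2 : IsClosedImmersion ((η[Q] : 𝟙_ (Over S) ⟶ Q).left ≫ Q.hom) := by
      rw [Over.w]
      change IsClosedImmersion (𝟙 S)
      infer_instance
    exact IsClosedImmersion.of_comp _ Q.hom
  exact MorphismProperty.of_isPullback (P := @IsClosedImmersion) (h.map (Over.forget S)).flip h1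

end Groth.Agent.Sga7.H734.NerHom
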