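import Groth.Agent.Sga7.H732.Hedge
import Groth.Agent.Etcore.FibreDeg
import Groth.Agent.Sga7.H734.NerHom

/-!
# Base change of rigidified classes along a field extension

`f' : C' → Spec K'` the base change of `f : C → Spec K` along `ψ : K → K'`; for a `K'`-scheme `T`, considered as a
`K`-scheme `T₁`, the schemes `C' × T` and `C × T₁` agree.
-/

set_option autoImplicit false
universe u
open CategoryTheory CategoryTheory.Limits AlgebraicGeometry MonObj MonoidalCategory CartesianMonoidalCategory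

namespace Groth.Agent.Sga7.H734.JacBC

open Groth.Agent.Grpsch.PicGrp Groth.Agent.Fga.RigGrp Groth.Agent.Sga7.H732.Hedge

section gen

variable {S S' C C' : Scheme.{u}} {b : S' ⟶ S} {f : C ⟶ S} {f' : C' ⟶ S'} {q : C' ⟶ C}
  (hq : IsPullback q f' f b)

/-- The comparison `C' ×_{S'} T → C ×_S T`. -/
noncomputable def io (T : Over S') : PicF.XT f' T ⟶ PicF.XT f ((Over.map b).obj T) :=
  pullback.lift (pullback.fst f' T.hom ≫ q) (pullback.snd f' T.hom) (by
    rw [Category.assoc, hq.w, pullback.condition_assoc]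
    rfl)

theorem io_fst (T : Over S') : io hq T ≫ pullback.fst f ((Over.map b).obj T).hom =
    pullback.fst f' T.hom ≫ q := pullback.lift_fst _ _ _

theorem io_snd (T : Over S') : io hq T ≫ PicF.XTproj f ((Over.map b).obj T) = PicF.XTproj f' T :=
  pullback.lift_snd _ _ _

theorem isPullback_io (T : Over S') :
    IsPullback (io hq T) (PicF.XTproj f' T) (PicF.XTproj f ((Over.map b).obj T)) (𝟙 T.left) := by
  refine IsPullback.of_right (h₁₂ := pullback.fst f ((Over.map b).obj T).hom) (h₂₂ := T.hom ≫ b) (v₁₃ := f) ?_ ?_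
    (IsPullback.of_hasPullback f ((Over.map b).obj T).hom)
  · rw [io_fst, Category.id_comp]
    exact (IsPullback.of_hasPullback f' T.hom).paste_horiz hq
  · rw [io_snd]
    exact (Category.comp_id _).symm

theorem isIso_io (T : Over S') : IsIso (io hq T) :=
  (isPullback_io hq T).isIso_fst_of_isIso

theorem io_nat {T T' : Over S'} (g : T' ⟶ T) :
    io hq T' ≫ PicF.XTmap f ((Over.map b).map g) = PicF.XTmap f' g ≫ io hq T := by
  apply pullback.hom_ext
  · rw [Category.assoc, XTmap_fst, io_fst, Category.assoc, io_fst, XTmap_fst_assoc]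
  · rw [Category.assoc, Category.assoc]
    have h1 := XTmap_XTproj f ((Over.map b).map g)
    have h2 := XTmap_XTproj f' g
    have h3 := io_snd hq T
    have h4 := io_snd hq T'
    erw [h1]
    erw [reassoc_of% h4]
    erw [h3]
    exact h2.symm

theorem sec_io (σ : S ⟶ C) (hσ : σ ≫ f = 𝟙 S) (σ' : S' ⟶ C') (hσ' : σ' ≫ f' = 𝟙 S') (h : σ' ≫ q = b ≫ σ)
    (T : Over S') : PicF.secT f' σ' hσ' T ≫ io hq T = PicF.secT f σ hσ ((Over.map b).obj T) := by
  apply pullback.hom_ext
  · rw [Category.assoc, io_fst, secT_fst, secT_fst_assoc, h]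
    simp
  · have h1 := io_snd hq T
    have h2 := secT_XTproj f σ hσ ((Over.map b).obj T)
    have h3 := secT_XTproj f' σ' hσ' T
    rw [Category.assoc]
    erw [h1, h2, h3]
    rfl

variable (c : Over S) (ξ : Pic (PicF.XT f c))

/-- The pull-back of a class along a morphism `T₁ → A`. -/
noncomputable def cc {A : Over S} (ξ : Pic (PicF.XT f A)) {T : Over S'} (a : (Over.map b).obj T ⟶ A) :
    Pic (PicF.XT f' T) := pull (io hq T ≫ PicF.XTmap f a) ξ

variable {A : Over S} (ξ : Pic (PicF.XT f A)) {T : Over S'}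

theorem cc_eq (a : (Over.map b).obj T ⟶ A) : cc hq ξ a = pull (io hq T) (pull (PicF.XTmap f a) ξ) := by
  rw [cc, pull_comp]

theorem cc_comp {T' : Over S'} (g : T' ⟶ T) (a : (Over.map b).obj T ⟶ A) :
    cc hq ξ ((Over.map b).map g ≫ a) = pull (PicF.XTmap f' g) (cc hq ξ a) := by
  rw [cc, cc, ← pull_comp, XTmap_comp, ← Category.assoc, io_nat, Category.assoc]

theorem cc_mul [GrpObj A] (hmul : ∀ {T : Over S} (g h : T ⟶ A),
    pull (PicF.XTmap f (g * h)) ξ = pull (PicF.XTmap f g) ξ * pull (PicF.XTmap f h) ξ)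
    (a a' : (Over.map b).obj T ⟶ A) : cc hq ξ (a * a') = cc hq ξ a * cc hq ξ a' := by
  rw [cc_eq, cc_eq, cc_eq, hmul, map_mul]

theorem cc_mem (σ : S ⟶ C) (hσ : σ ≫ f = 𝟙 S) (σ' : S' ⟶ C') (hσ' : σ' ≫ f' = 𝟙 S') (h : σ' ≫ q = b ≫ σ)
    (hξ : ξ ∈ Rg f σ hσ A) (a : (Over.map b).obj T ⟶ A) : cc hq ξ a ∈ Rg f' σ' hσ' T := by
  rw [mem_Rg, cc_eq, ← pull_comp, sec_io hq σ hσ σ' hσ' h]
  exact (mem_Rg f σ hσ).1 (pull_mem a hξ)

theorem isPullback_cc (a : (Over.map b).obj T ⟶ A) :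
    IsPullback (io hq T ≫ PicF.XTmap f a) (PicF.XTproj f' T) (PicF.XTproj f A) a.left := by
  have h1 : IsPullback (PicF.XTmap f a) (PicF.XTproj f ((Over.map b).obj T)) (PicF.XTproj f A) a.left := by
    refine IsPullback.of_right (h₁₂ := pullback.fst f A.hom) (h₂₂ := A.hom) (v₁₃ := f) ?_
      (XTmap_XTproj f a) (IsPullback.of_hasPullback f A.hom)
    rw [XTmap_fst, Over.w]
    exact IsPullback.of_hasPullback f _
  have h2 := (isPullback_io hq T).paste_horiz h1
  rwa [Category.id_comp] at h2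

end gen

section field

open Groth.Agent.Etcore.FibreDeg Groth.Agent.Etcore.DegZero

variable {k k' : Type u} [Field k] [Field k'] {C C' : Scheme.{u}} {f : C ⟶ Spec (CommRingCat.of k)}
  {f' : C' ⟶ Spec (CommRingCat.of k')}

theorem toCl_eq {Y : Scheme.{u}} (c : Pic Y) : Groth.Agent.Etcore.FibreDeg.toCl c = Fga.RigGrp.toCl c := by
  induction c using ind with | _ L hL => ?_
  rfl

/-- The degree on a fibre is invariant under cartesian squares. -/
theorem fdeg_isPullback [IsProper f] {A : Over (Spec (CommRingCat.of k))} {T : Over (Spec (CommRingCat.of k'))}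
    {m : PicF.XT f' T ⟶ PicF.XT f A} {w : T.left ⟶ A.left}
    (h1 : IsPullback m (PicF.XTproj f' T) (PicF.XTproj f A) w) (t : T.left) (c : Pic (PicF.XT f A)) :
    fdeg f' T t (pull m c) = fdeg f A (w t) c := by
  have h4 : T.left.fromSpecResidueField t ≫ w =
      Spec.map (w.residueFieldMap t) ≫ A.left.fromSpecResidueField (w t) :=
    (Scheme.Hom.SpecMap_residueFieldMap_fromSpecResidueField w t).symm
  let h : (FGA.fibreAt f' T t).left ⟶ (FGA.fibreAt f A (w t)).left :=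
    pullback.lift (fibι f' T t ≫ m)
      ((FGA.fibreAt f' T t).hom ≫ Spec.map (w.residueFieldMap t)) (by
        rw [Category.assoc, Category.assoc, ← h4, h1.w, ← Category.assoc,
          (isPullback_fibι f' T t).w, Category.assoc])
  have hfst : h ≫ fibι f A (w t) = fibι f' T t ≫ m := pullback.lift_fst _ _ _
  have hsnd : h ≫ (FGA.fibreAt f A (w t)).hom =
      (FGA.fibreAt f' T t).hom ≫ Spec.map (w.residueFieldMap t) := pullback.lift_snd _ _ _
  have h5 : IsPullback h (FGA.fibreAt f' T t).hom (FGA.fibreAt f A (w t)).hom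
      (Spec.map (w.residueFieldMap t)) := by
    refine IsPullback.of_right (h₁₂ := fibι f A (w t))
      (h₂₂ := A.left.fromSpecResidueField (w t)) (v₁₃ := PicF.XTproj f A) ?_ hsnd
      (isPullback_fibι f A (w t))
    rw [hfst, ← h4]
    exact (isPullback_fibι f' T t).paste_horiz h1
  have hprop : IsProper (FGA.fibreAt f A (w t)).hom :=
    MorphismProperty.of_isPullback (P := @IsProper) (isPullback_fibre f A (w t)) inferInstance
  have hcomp : CompactSpace (FGA.fibreAt f A (w t)).left :=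
    (quasiCompact_iff_compactSpace (f := (FGA.fibreAt f A (w t)).hom)).mp inferInstance
  have hqs : QuasiSeparatedSpace (FGA.fibreAt f A (w t)).left :=
    (quasiSeparated_iff_quasiSeparatedSpace (f := (FGA.fibreAt f A (w t)).hom)).mp inferInstance
  have := dg_pull (A.left.residueField (w t)) (FGA.fibreAt f A (w t)).left
    (T.left.residueField t) (FGA.fibreAt f' T t).left h _ h5 (pull (fibι f A (w t)) c)
  rw [fdeg, fdeg, ← this, ← pull_comp, ← pull_comp, hfst]

theorem deg_isPullback [IsProper f] {A : Over (Spec (CommRingCat.of k))} {T : Over (Spec (CommRingCat.of k'))}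
    {m : PicF.XT f' T ⟶ PicF.XT f A} {w : T.left ⟶ A.left}
    (h1 : IsPullback m (PicF.XTproj f' T) (PicF.XTproj f A) w) {c : Pic (PicF.XT f A)}
    (hc : FGA.HasFibreDegreeZeroCl f A (Fga.RigGrp.toCl c)) :
    FGA.HasFibreDegreeZeroCl f' T (Fga.RigGrp.toCl (pull m c)) := by
  rw [← toCl_eq, hasFibreDegreeZeroCl_iff] at hc ⊢
  intro t
  rw [fdeg_isPullback h1, hc]

theorem deg_pull [IsProper f] {A T : Over (Spec (CommRingCat.of k))} (g : T ⟶ A) {c : Pic (PicF.XT f A)}
    (hc : FGA.HasFibreDegreeZeroCl f A (Fga.RigGrp.toCl c)) :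
    FGA.HasFibreDegreeZeroCl f T (Fga.RigGrp.toCl (pull (PicF.XTmap f g) c)) := by
  refine deg_isPullback (w := g.left) ?_ hc
  refine IsPullback.of_right (h₁₂ := pullback.fst f A.hom) (h₂₂ := A.hom) (v₁₃ := f) ?_
    (XTmap_XTproj f g) (IsPullback.of_hasPullback f A.hom)
  rw [XTmap_fst, Over.w]
  exact IsPullback.of_hasPullback f _

theorem jac_hom_ext [IsProper f] {σ : Spec (CommRingCat.of k) ⟶ C} {hσ : σ ≫ f = 𝟙 _}
    {J : Over (Spec (CommRingCat.of k))} [GrpObj J] {ξ : Pic (PicF.XT f J)} (hJ : IsJac f σ hσ J ξ)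
    {T : Over (Spec (CommRingCat.of k))} {u v : T ⟶ J}
    (h : pull (PicF.XTmap f u) ξ = pull (PicF.XTmap f v) ξ) : u = v :=
  (hJ.univ T (pull (PicF.XTmap f v) ξ) (pull_mem v hJ.mem) (deg_pull v hJ.deg)).unique h rfl

theorem jac_pull_one {σ : Spec (CommRingCat.of k) ⟶ C} {hσ : σ ≫ f = 𝟙 _}
    {J : Over (Spec (CommRingCat.of k))} [GrpObj J] {ξ : Pic (PicF.XT f J)} (hJ : IsJac f σ hσ J ξ)
    {T : Over (Spec (CommRingCat.of k))} : pull (PicF.XTmap f (1 : T ⟶ J)) ξ = 1 := by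
  have h := hJ.mul (1 : T ⟶ J) (1 : T ⟶ J)
  rw [_root_.mul_one] at h
  exact (mul_eq_left.1 h.symm)

/-- A rigidified additive class of degree zero over `k` gives a homomorphism to the Jacobian over `k'`. -/
theorem exists_hom [IsProper f] [IsProper f'] {ψ : Spec (CommRingCat.of k') ⟶ Spec (CommRingCat.of k)} {q : C' ⟶ C}
    (hq : IsPullback q f' f ψ)
    {σ : Spec (CommRingCat.of k) ⟶ C} {hσ : σ ≫ f = 𝟙 _}
    {σ' : Spec (CommRingCat.of k') ⟶ C'} {hσ' : σ' ≫ f' = 𝟙 _} (hσσ : σ' ≫ q = ψ ≫ σ)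
    {A : Over (Spec (CommRingCat.of k))} [GrpObj A] {ξ : Pic (PicF.XT f A)}
    (hmem : ξ ∈ Rg f σ hσ A) (hdeg : FGA.HasFibreDegreeZeroCl f A (Fga.RigGrp.toCl ξ))
    (hmul : ∀ {T : Over (Spec (CommRingCat.of k))} (g h : T ⟶ A),
      pull (PicF.XTmap f (g * h)) ξ = pull (PicF.XTmap f g) ξ * pull (PicF.XTmap f h) ξ)
    {A' : Over (Spec (CommRingCat.of k'))} [GrpObj A'] (a : (Over.map ψ).obj A' ⟶ A)
    (ha : ∀ (T : Over (Spec (CommRingCat.of k'))) (g h : T ⟶ A'), (Over.map ψ).map (g * h) ≫ a =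
      ((Over.map ψ).map g ≫ a) * ((Over.map ψ).map h ≫ a))
    {J : Over (Spec (CommRingCat.of k'))} [GrpObj J] {ξJ : Pic (PicF.XT f' J)} (hJ : IsJac f' σ' hσ' J ξJ) :
    ∃ w : A' ⟶ J, IsMonHom w ∧ ∀ (T : Over (Spec (CommRingCat.of k'))) (x : T ⟶ A'), x ≫ w = 1 →
      pull (PicF.XTmap f ((Over.map ψ).map x ≫ a)) ξ = 1 := by
  obtain ⟨w, hw, -⟩ := hJ.univ A' (cc hq ξ a) (cc_mem hq ξ σ hσ σ' hσ' hσσ hmem a)
    (deg_isPullback (isPullback_cc hq a) hdeg)
  have key : ∀ (T : Over (Spec (CommRingCat.of k'))) (x : T ⟶ A'),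
      pull (PicF.XTmap f' (x ≫ w)) ξJ = cc hq ξ ((Over.map ψ).map x ≫ a) := by
    intro T x
    rw [cc_comp, ← hw, ← pull_comp, XTmap_comp]
  refine ⟨w, NerHom.isMonHom_of_mul w (jac_hom_ext hJ ?_), fun T x hx => ?_⟩
  · rw [key, ha, cc_mul hq ξ hmul, hJ.mul, key, key]
  · have h1 := key T x
    rw [hx, jac_pull_one hJ, cc_eq] at h1
    have := isIso_io hq T
    have h2 : pull (inv (io hq T)) (pull (io hq T) (pull (PicF.XTmap f ((Over.map ψ).map x ≫ a)) ξ)) = 1 := by
      rw [← h1, map_one]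
    rwa [← pull_comp, IsIso.inv_hom_id, pull_id] at h2

end field

end Groth.Agent.Sga7.H734.JacBC
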