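import Groth.Agent.Sga7.H760.L2
import Groth.Prelude.Def_SGA7IX

/-!
# Finite products of group schemes without `G_a` in the fibres
-/

set_option autoImplicit false
universe u
open CategoryTheory CategoryTheory.Limits AlgebraicGeometry MonObj MonoidalCategory CartesianMonoidalCategory
open SGA7

namespace Groth.Agent.Sga7.H734.ProdGrp

section field

variable {k : Type u} [Field k]

/-- A closed immersion from `G_a` is nontrivial. -/
theorem ne_one {G : Over (Spec (CommRingCat.of k))} [GrpObj G] (j : Red.Ga (Spec (CommRingCat.of k)) ⟶ G)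
    (hj : IsClosedImmersion j.left) : j ≠ 1 := by
  intro h
  have hm : Mono j := by
    have : Mono j.left := inferInstance
    exact Over.mono_of_mono_left j
  have h1 : H760.GaQuot.pt (𝟙_ (Over (Spec (CommRingCat.of k)))) 0 =
      H760.GaQuot.pt (𝟙_ (Over (Spec (CommRingCat.of k)))) 1 := by
    rw [← cancel_mono j, h, MonObj.comp_one, MonObj.comp_one]
  have h2 := H760.GaQuot.pt_injective _ h1
  have : Nontrivial Γ((𝟙_ (Over (Spec (CommRingCat.of k)))).left, ⊤) :=
    inferInstanceAs (Nontrivial Γ(Spec (CommRingCat.of k), ⊤))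
  exact (_root_.zero_ne_one (α := Γ((𝟙_ (Over (Spec (CommRingCat.of k)))).left, ⊤))) h2

variable [IsAlgClosed k]

/-- No closed `G_a`. -/
def NoGa (G : Over (Spec (CommRingCat.of k))) [GrpObj G] : Prop :=
  ∀ (j : Red.Ga (Spec (CommRingCat.of k)) ⟶ G), IsMonHom j → IsClosedImmersion j.left → False

/-- If `G` maps to groups without `G_a` by a jointly injective family of homomorphisms then it has none. -/
theorem noGa_of_joint {I : Type*} {G : Over (Spec (CommRingCat.of k))} [GrpObj G]
    (H : I → Over (Spec (CommRingCat.of k))) [∀ i, GrpObj (H i)] [∀ i, LocallyOfFiniteType (H i).hom]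
    (p : ∀ i, G ⟶ H i) [∀ i, IsMonHom (p i)]
    (hp : ∀ (T : Over (Spec (CommRingCat.of k))) (a b : T ⟶ G), (∀ i, a ≫ p i = b ≫ p i) → a = b)
    (hH : ∀ i, NoGa (H i)) : NoGa G := by
  intro j hj hj'
  refine ne_one j hj' ?_
  refine hp _ _ _ fun i => ?_
  rw [MonObj.one_comp]
  by_contra h
  obtain ⟨j', h2, h3⟩ := H760.L2 k (H i) (j ≫ p i) h
  exact hH i j' h2 h3

end field

/-- The same for the geometric fibres of group schemes over a base. -/
theorem rankZero_of_joint {S : Scheme.{u}} (s : S) {I : Type*} {P : Over S} [GrpObj P]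
    (N : I → Over S) [∀ i, GrpObj (N i)] [∀ i, LocallyOfFiniteType (N i).hom]
    (π : ∀ i, P ⟶ N i) [∀ i, IsMonHom (π i)]
    (hp : ∀ (T : Over S) (a b : T ⟶ P), (∀ i, a ≫ π i = b ≫ π i) → a = b)
    (h : ∀ i, FibreUnipotentRankZero s (N i)) : FibreUnipotentRankZero s P := by
  have h1 : ∀ i, LocallyOfFiniteType (Red.geomFibre s (N i)).hom := by
    intro i
    show LocallyOfFiniteType (pullback.snd (N i).hom _)
    infer_instance
  refine noGa_of_joint (fun i => Red.geomFibre s (N i)) (fun i => (Over.pullback (Red.geomPt s)).map (π i)) ?_ h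
  intro T a b hab
  apply ((Over.mapPullbackAdj (Red.geomPt s)).homEquiv T P).symm.injective
  refine hp _ _ _ fun i => ?_
  rw [← Adjunction.homEquiv_naturality_right_symm, ← Adjunction.homEquiv_naturality_right_symm, hab i]

/-- Finite products of commutative group schemes. -/
theorem exists_prod {S : Scheme.{u}} (n : ℕ) : ∀ (N : Fin n → Over S) [∀ i, GrpObj (N i)] [∀ i, IsCommMonObj (N i)]
    [∀ i, IsSeparated (N i).hom] [∀ i, LocallyOfFiniteType (N i).hom] [∀ i, QuasiCompact (N i).hom],
    ∃ (P : Over S) (_ : GrpObj P) (_ : IsCommMonObj P) (π : ∀ i, P ⟶ N i), IsSeparated P.hom ∧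
      LocallyOfFiniteType P.hom ∧ QuasiCompact P.hom ∧ (∀ i, IsMonHom (π i)) ∧
      (∀ (T : Over S) (a b : T ⟶ P), (∀ i, a ≫ π i = b ≫ π i) → a = b) ∧
      (∀ (T : Over S) [GrpObj T] (v : ∀ i, T ⟶ N i), (∀ i, IsMonHom (v i)) →
        ∃ w : T ⟶ P, IsMonHom w ∧ ∀ i, w ≫ π i = v i) := by
  induction n with
  | zero =>
    intro N _ _ _ _ _
    refine ⟨𝟙_ (Over S), inferInstance, inferInstance, fun i => i.elim0, ?_, ?_, ?_, fun i => i.elim0, ?_, ?_⟩
    · exact inferInstanceAs (IsSeparated (𝟙 S))
    · exact inferInstanceAs (LocallyOfFiniteType (𝟙 S))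
    · exact inferInstanceAs (QuasiCompact (𝟙 S))
    · intro T a b _
      exact toUnit_unique _ _
    · intro T _ v _
      exact ⟨toUnit T, inferInstance, fun i => i.elim0⟩
  | succ n ih =>
    intro N _ _ _ _ _
    obtain ⟨P, hP1, hP2, π, h1, h2, h3, h4, h5, h6⟩ := ih (fun i => N i.castSucc)
    refine ⟨P ⊗ N (Fin.last n), inferInstance, inferInstance, Fin.lastCases (snd _ _) (fun i => fst _ _ ≫ π i), ?_,
      ?_, ?_, ?_, ?_, ?_⟩
    · show IsSeparated (pullback.fst P.hom (N (Fin.last n)).hom ≫ P.hom)
      infer_instance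
    · show LocallyOfFiniteType (pullback.fst P.hom (N (Fin.last n)).hom ≫ P.hom)
      infer_instance
    · show QuasiCompact (pullback.fst P.hom (N (Fin.last n)).hom ≫ P.hom)
      infer_instance
    · intro i
      refine Fin.lastCases ?_ (fun i => ?_) i
      · dsimp only
        rw [Fin.lastCases_last]
        infer_instance
      · dsimp only
        rw [Fin.lastCases_castSucc]
        have := h4 i
        infer_instance
    · intro T a b hab
      apply CartesianMonoidalCategory.hom_ext
      · refine h5 _ _ _ fun i => ?_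
        have := hab i.castSucc
        dsimp only at this
        rw [Fin.lastCases_castSucc] at this
        rw [Category.assoc, Category.assoc, this]
      · have := hab (Fin.last n)
        dsimp only at this
        rwa [Fin.lastCases_last] at this
    · intro T _ v hv
      obtain ⟨w, hw, hw'⟩ := h6 T (fun i => v i.castSucc) (fun i => hv _)
      have := hv (Fin.last n)
      refine ⟨lift w (v (Fin.last n)), inferInstance, fun i => ?_⟩
      refine Fin.lastCases ?_ (fun i => ?_) i
      · dsimp only
        rw [Fin.lastCases_last, lift_snd]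
      · dsimp only
        rw [Fin.lastCases_castSucc, lift_fst_assoc, hw']

end Groth.Agent.Sga7.H734.ProdGrp
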