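import Groth.Agent.Sga7.H734.Common
import Groth.Agent.Sga7.H734.FinKer
import Groth.Agent.Sga7.H734.ProdGrp
import Groth.Agent.Sga7.H734.JacBC
import Groth.Agent.Sga7.H734.BaseTrans
import Groth.Agent.Sga7.H734.NerHom
import Groth.Agent.Sga7.H736.Interface
import Groth.Agent.Sga7.H732.Hedge
import Groth.Agent.Sga7.H751.SecRoot
import Groth.Agent.Sga67.DVRConn

/-!
# Potential semistable reduction from semistable reduction of curves
-/

set_option autoImplicit false
universe u
open CategoryTheory CategoryTheory.Limits AlgebraicGeometry MonObj MonoidalCategory CartesianMonoidalCategory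

namespace Groth.Agent.Sga7.H734.PSSRAsm

open Groth.Agent.Grpsch.PicGrp Groth.Agent.Fga.RigGrp Groth.Agent.Sga7.H732.Hedge IsLocalRing

/-- The statement S2226. -/
def S2226Stmt : Prop := ∀ (R : Type u) [CommRing R] [IsDomain R]
    [IsDiscreteValuationRing R] (C : Scheme.{u}) (f : C ⟶ Spec (CommRingCat.of (FractionRing R)))
    (_ : Curve.IsSmoothProperCurve (FractionRing R) C f) (_ : IsIso f.appTop)
    (_ : Models.HasSemistableReduction R C f),
    ∃ (X : Scheme.{u}) (p : X ⟶ Spec (CommRingCat.of R)),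
      Models.IsRegularProperModel R X p C f ∧ Curv2.IsNodalFamily p

theorem isIso_appTop {k : Type u} [Field k] {X : Scheme.{u}} (f : X ⟶ Spec (CommRingCat.of k)) [IsProper f]
    [GeometricallyIntegral f] : IsIso f.appTop := by
  rw [ConcreteCategory.isIso_iff_bijective]
  exact Sga67.DVRConn.appTop_bijective_of_field k X f

/-- The Neron model of the Jacobian of one curve, with the homomorphism given by an additive class. -/
theorem exists_jac (h26 : S2226Stmt.{u}) (hNE : H736.Interface.NEAll.{u}) (hJK : JK.{u}) (hCL : CLAIM.{u})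
    {K₁ : Type u} [Field K₁] (R' : Type u) [CommRing R'] [IsDomain R'] [IsDiscreteValuationRing R']
    [HenselianLocalRing R'] [IsSepClosed (ResidueField R')] (ψ : K₁ →+* FractionRing R')
    {C : Scheme.{u}} (f : C ⟶ Spec (CommRingCat.of K₁)) (hC : Curve.IsSmoothProperCurve K₁ C f)
    (hg : GeometricallyIntegral f) (σ : Spec (CommRingCat.of K₁) ⟶ C) (hσ : σ ≫ f = 𝟙 _)
    (hss : ∀ (C' : Scheme.{u}) (f' : C' ⟶ Spec (CommRingCat.of (FractionRing R')))
      (q : C' ⟶ C), IsPullback q f' f (Spec.map (CommRingCat.ofHom ψ)) → Models.HasSemistableReduction R' C' f')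
    {A : Over (Spec (CommRingCat.of K₁))} [GrpObj A] {ξ : Pic (PicF.XT f A)}
    (hmem : ξ ∈ Rg f σ hσ A) (hdeg : FGA.HasFibreDegreeZeroCl f A (Fga.RigGrp.toCl ξ))
    (hmul : ∀ {T : Over (Spec (CommRingCat.of K₁))} (g h : T ⟶ A),
      pull (PicF.XTmap f (g * h)) ξ = pull (PicF.XTmap f g) ξ * pull (PicF.XTmap f h) ξ)
    {A' : Over (Spec (CommRingCat.of (FractionRing R')))} [GrpObj A']
    (a : (Over.map (Spec.map (CommRingCat.ofHom ψ))).obj A' ⟶ A)
    (ha : ∀ (T : Over (Spec (CommRingCat.of (FractionRing R')))) (g h : T ⟶ A'),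
      (Over.map (Spec.map (CommRingCat.ofHom ψ))).map (g * h) ≫ a =
      ((Over.map (Spec.map (CommRingCat.ofHom ψ))).map g ≫ a) *
        ((Over.map (Spec.map (CommRingCat.ofHom ψ))).map h ≫ a)) :
    ∃ (N : Over (Spec (CommRingCat.of R'))) (_ : GrpObj N) (_ : IsCommMonObj N)
      (w : A' ⟶ (SGA7.genFib R' (FractionRing R')).obj N),
      SGA7.IsNeron R' (FractionRing R') N ∧ SGA7.FibreUnipotentRankZero (closedPoint R') N ∧ IsMonHom w ∧
      ∀ (T : Over (Spec (CommRingCat.of (FractionRing R')))) (x : T ⟶ A'), x ≫ w = 1 →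
        pull (PicF.XTmap f ((Over.map (Spec.map (CommRingCat.ofHom ψ))).map x ≫ a)) ξ = 1 := by
  let b : Spec (CommRingCat.of (FractionRing R')) ⟶ Spec (CommRingCat.of K₁) := Spec.map (CommRingCat.ofHom ψ)
  obtain ⟨h1, h2, h3, h4⟩ := hC
  obtain ⟨h5, h6⟩ := Models.H57.GeoInt.isSmoothProperCurve_pullback f ⟨h1, h2, h3, h4⟩ (isIso_appTop f) ψ
  let f' := pullback.snd f b
  have hq : IsPullback (pullback.fst f b) f' f b := IsPullback.of_hasPullback f b
  have hg' : GeometricallyIntegral f' := inferInstanceAs (GeometricallyIntegral (pullback.snd f b))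
  obtain ⟨X, p, hX, hn⟩ := h26 R' _ f' h5 h6 (hss _ _ _ hq)
  let σ' : Spec (CommRingCat.of (FractionRing R')) ⟶ pullback f b := pullback.lift (b ≫ σ) (𝟙 _) (by
    rw [Category.assoc, hσ, Category.comp_id, Category.id_comp])
  have hσ' : σ' ≫ f' = 𝟙 _ := pullback.lift_snd _ _ _
  obtain ⟨J, _, ξJ, hJ1, hJ2, hJ3⟩ := hJK (FractionRing R') _ f' h5 hg' σ' hσ'
  obtain ⟨N, _, e, he, hN⟩ := hNE R' (FractionRing R') J
  have h7 := hCL R' _ f' h5 hg' σ' hσ' X p hX hn J ξJ hJ1 hJ2 hJ3 N hN e he
  have hp' : IsProper f' := h5.1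
  obtain ⟨w, hw, hw'⟩ := JacBC.exists_hom (f := f) (f' := f') hq (σ := σ) (hσ := hσ) (σ' := σ') (hσ' := hσ')
    (pullback.lift_fst _ _ _) hmem hdeg hmul a ha hJ3
  have hpN : IsProper ((SGA7.genFib R' (FractionRing R')).obj N).hom := by
    rw [← Over.w e.hom]
    infer_instance
  have hgN : GeometricallyIntegral ((SGA7.genFib R' (FractionRing R')).obj N).hom := by
    rw [← Over.w e.hom, MorphismProperty.cancel_left_of_respectsIso @GeometricallyIntegral]
    infer_instance
  refine ⟨N, inferInstance, H751.SecRoot.isCommMonObj_of_isNeron R' (FractionRing R') N hN, w ≫ e.inv, hN, h7,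
    inferInstance, fun T x hx => ?_⟩
  refine hw' T x ?_
  have h8 : (x ≫ w ≫ e.inv) ≫ e.hom = 1 ≫ e.hom := by rw [hx]
  rwa [MonObj.one_comp, Category.assoc, Category.assoc, e.inv_hom_id, Category.comp_id] at h8

/-- The conclusion of `PSSR`, from ring homomorphisms. -/
theorem wrap {R K : Type u} [CommRing R] [IsDomain R] [IsDiscreteValuationRing R]
    [Field K] [Algebra R K] [IsFractionRing R K]
    (A : Over (Spec (CommRingCat.of K))) [GrpObj A]
    (R' K' : Type u) [CommRing R'] [IsDomain R'] [IsDiscreteValuationRing R'] [HenselianLocalRing R']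
    [IsSepClosed (ResidueField R')] [Field K'] [Algebra R' K'] [IsFractionRing R' K'] (φ : R →+* R')
    (hφ : IsLocalHom φ) (ψ : K →+* K') (hcomm : ψ.comp (algebraMap R K) = (algebraMap R' K').comp φ)
    (hfs : Models.IsFiniteSeparable ψ)
    (h : ∀ (N : Over (Spec (CommRingCat.of R'))) [GrpObj N] (_ : SGA7.IsNeron R' K' N)
        (e : (SGA7.genFib R' K').obj N ≅ Red.bc (Spec.map (CommRingCat.ofHom ψ)) A)
        (_ : IsMonHom e.hom), SGA7.FibreUnipotentRankZero (closedPoint R') N) :
    ∃ (K' : Type u) (_ : Field K') (_ : Algebra K K') (_ : FiniteDimensional K K')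
      (_ : Algebra.IsSeparable K K') (R' : Type u) (_ : CommRing R') (_ : IsDomain R')
      (_ : IsDiscreteValuationRing R') (_ : HenselianLocalRing R') (_ : IsSepClosed (ResidueField R'))
      (_ : Algebra R R') (_ : IsLocalHom (algebraMap R R')) (_ : Algebra R' K') (_ : IsFractionRing R' K')
      (_ : Algebra R K') (_ : IsScalarTower R K K') (_ : IsScalarTower R R' K'),
      ∀ (N : Over (Spec (CommRingCat.of R'))) [GrpObj N] (_ : SGA7.IsNeron R' K' N)
        (e : (SGA7.genFib R' K').obj N ≅ Red.bc (Spec.map (CommRingCat.ofHom (algebraMap K K'))) A)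
        (_ : IsMonHom e.hom), SGA7.FibreUnipotentRankZero (closedPoint R') N := by
  let _ : Algebra R R' := φ.toAlgebra
  let _ : Algebra K K' := ψ.toAlgebra
  let _ : Algebra R K' := ((algebraMap R' K').comp φ).toAlgebra
  have t1 : IsScalarTower R K K' := IsScalarTower.of_algebraMap_eq fun x => (RingHom.congr_fun hcomm x).symm
  have t2 : IsScalarTower R R' K' := IsScalarTower.of_algebraMap_eq fun x => rfl
  obtain ⟨hf1, hf2⟩ := hfs
  exact ⟨K', inferInstance, inferInstance, hf1, hf2, R', inferInstance, inferInstance, inferInstance, inferInstance,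
    inferInstance, inferInstance, hφ, inferInstance, inferInstance, inferInstance, t1, t2, h⟩

/-- `FK` over infinite fields. -/
def FKInf : Prop :=
  ∀ (K : Type u) [Field K] [Infinite K] (A : Over (Spec (CommRingCat.of K))) [GrpObj A] [IsProper A.hom]
    [GeometricallyIntegral A.hom],
    ∃ (K₁ : Type u) (_ : Field K₁) (_ : Algebra K K₁) (_ : FiniteDimensional K K₁)
      (_ : Algebra.IsSeparable K K₁) (n : ℕ) (C : Fin n → Scheme.{u})
      (f : ∀ i, C i ⟶ Spec (CommRingCat.of K₁))
      (σ : ∀ i, Spec (CommRingCat.of K₁) ⟶ C i) (hσ : ∀ i, σ i ≫ f i = 𝟙 _)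
      (c : ∀ i, Pic (PicF.XT (f i) (Red.bc (Spec.map (CommRingCat.ofHom (algebraMap K K₁))) A))),
      FKData K₁ (Red.bc (Spec.map (CommRingCat.ofHom (algebraMap K K₁))) A) n C f σ hσ c

theorem infinite_of_dvr (R K : Type u) [CommRing R] [IsDomain R] [IsDiscreteValuationRing R] [Field K]
    [Algebra R K] [IsFractionRing R K] : Infinite K := by
  have h1 : Infinite R := by
    by_contra h
    rw [not_infinite_iff_finite] at h
    exact IsDiscreteValuationRing.not_isField R (Finite.isField_of_domain R)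
  exact Infinite.of_injective (algebraMap R K) (IsFractionRing.injective R K)

/-- Potential semistable reduction. -/
theorem main_inf (h33 : Common.S3333Stmt.{u}) (h26 : S2226Stmt.{u}) (hNE : H736.Interface.NEAll.{u}) (hJK : JK.{u})
    (hFK : FKInf.{u}) (hCL : CLAIM.{u}) (hSUB : SUB.{u}) : PSSR.{u} := by
  intro R K _ _ _ _ _ _ _ _ A _ _ _
  have hK : Infinite K := infinite_of_dvr R K
  obtain ⟨K₁, _, _, _, _, n, C, f, σ, hσ, c, hF⟩ := hFK K A
  obtain ⟨s₀⟩ := Common.exists_stage₀ R K K₁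
  obtain ⟨s, hs⟩ := Common.exists_stage h33 s₀ n C f hF.curve (fun i => by
    have h1 := hF.geomInt i
    have h2 : IsProper (f i) := (hF.curve i).1
    exact isIso_appTop (f i))
  have hfs : Models.IsFiniteSeparable (s.ψ.comp (algebraMap K K₁)) := by
    refine Common.isFiniteSeparable_comp ?_ s.fs
    unfold Models.IsFiniteSeparable
    have : (algebraMap K K₁).toAlgebra = ‹Algebra K K₁› := Algebra.algebra_ext _ _ (fun _ => rfl)
    rw [this]
    exact ⟨inferInstance, inferInstance⟩
  have hsl := s.loc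
  refine wrap A s.R' (FractionRing s.R') s.φ s.loc (s.ψ.comp (algebraMap K K₁)) (by
    rw [RingHom.comp_assoc, s.comm]) hfs ?_
  intro N _ hN e he
  let ψ₁ : Spec (CommRingCat.of (FractionRing s.R')) ⟶ Spec (CommRingCat.of K₁) := Spec.map (CommRingCat.ofHom s.ψ)
  let φ₁ : Spec (CommRingCat.of K₁) ⟶ Spec (CommRingCat.of K) := Spec.map (CommRingCat.ofHom (algebraMap K K₁))
  let φ' : Spec (CommRingCat.of (FractionRing s.R')) ⟶ Spec (CommRingCat.of K) :=
    Spec.map (CommRingCat.ofHom (s.ψ.comp (algebraMap K K₁)))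
  have hφ' : φ' = ψ₁ ≫ φ₁ := Common.spec_comp _ _
  have hpN : IsProper ((SGA7.genFib s.R' (FractionRing s.R')).obj N).hom := by
    rw [← Over.w e.hom]
    have : IsProper (Red.bc φ' A).hom := by
      change IsProper (pullback.snd A.hom φ')
      infer_instance
    infer_instance
  have hgN : GeometricallyIntegral ((SGA7.genFib s.R' (FractionRing s.R')).obj N).hom := by
    rw [← Over.w e.hom]
    have : GeometricallyIntegral (Red.bc φ' A).hom := by
      change GeometricallyIntegral (pullback.snd A.hom φ')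
      infer_instance
    rw [MorphismProperty.cancel_left_of_respectsIso @GeometricallyIntegral]
    exact this
  have key : ∀ i, ∃ (N' : Over (Spec (CommRingCat.of s.R'))) (_ : GrpObj N') (_ : IsCommMonObj N')
      (w : Red.bc φ' A ⟶ (SGA7.genFib s.R' (FractionRing s.R')).obj N'),
      SGA7.IsNeron s.R' (FractionRing s.R') N' ∧ SGA7.FibreUnipotentRankZero (closedPoint s.R') N' ∧ IsMonHom w ∧
      ∀ (T : Over (Spec (CommRingCat.of (FractionRing s.R')))) (x : T ⟶ Red.bc φ' A), x ≫ w = 1 →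
        pull (PicF.XTmap (f i) ((Over.map ψ₁).map x ≫ BaseTrans.proj φ₁ ψ₁ φ' hφ' A)) (c i) = 1 := by
    intro i
    exact exists_jac h26 hNE hJK hCL s.R' s.ψ (f i) (hF.curve i) (hF.geomInt i) (σ i) (hσ i) (hs i)
      (hF.mem i) (hF.deg i) (fun g h => hF.mul i g h) (BaseTrans.proj φ₁ ψ₁ φ' hφ' A)
      (fun T g h => BaseTrans.proj_mul φ₁ ψ₁ φ' hφ' A T g h)
  choose N' g1 g2 w hN' hr hw hk using key
  have hv : ∀ i, ∃ v : N ⟶ N' i, (SGA7.genFib s.R' (FractionRing s.R')).map v = e.hom ≫ w i ∧ IsMonHom v := by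
    intro i
    have := hw i
    exact NerHom.exists_hom N (N' i) hN.1 (hN' i) (e.hom ≫ w i)
  choose v hv1 hv2 using hv
  have i1 : ∀ i, IsSeparated (N' i).hom := fun i => (hN' i).2.1
  have i2 : ∀ i, LocallyOfFiniteType (N' i).hom := fun i => by
    have := (hN' i).1
    infer_instance
  have i3 : ∀ i, QuasiCompact (N' i).hom := fun i => (hN' i).2.2.1
  obtain ⟨P, _, _, π, p1, p2, p3, p4, p5, p6⟩ := ProdGrp.exists_prod n N'
  obtain ⟨u, hu, hu'⟩ := p6 N v hv2
  refine hSUB s.R' (FractionRing s.R') N P hN hpN hgN u ?_ (ProdGrp.rankZero_of_joint _ N' π p5 hr)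
  intro L i hi
  have hci : IsClosedImmersion i.left := by
    have : IsSeparated ((SGA7.genFib s.R' (FractionRing s.R')).obj P).hom := by
      change IsSeparated (pullback.snd P.hom _)
      infer_instance
    exact NerHom.isClosedImmersion_ker i _ hi
  have hL1 : LocallyOfFiniteType L.hom := by
    rw [← Over.w i]
    infer_instance
  have hL2 : QuasiCompact L.hom := by
    rw [← Over.w i]
    infer_instance
  have hL3 : Mono i := by
    have : Mono i.left := inferInstance
    exact Over.mono_of_mono_left i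
  have hiu : ∀ j, i ≫ (SGA7.genFib s.R' (FractionRing s.R')).map (v j) = 1 := by
    intro j
    have h1 : i ≫ (SGA7.genFib s.R' (FractionRing s.R')).map u = 1 := hi.w
    rw [← hu' j, Functor.map_comp, ← Category.assoc, h1]
    exact MonObj.one_comp _
  let Ω := AlgebraicClosure (FractionRing s.R')
  let t : Spec (CommRingCat.of Ω) ⟶ Spec (CommRingCat.of (FractionRing s.R')) :=
    Spec.map (CommRingCat.ofHom (algebraMap (FractionRing s.R') Ω))
  refine FinKer.isFinite_of_points t L.hom ?_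
  have hfin : Finite {x : Over.mk (t ≫ ψ₁) ⟶ Red.bc φ₁ A // ∀ j, pull (PicF.XTmap (f j) x) (c j) = 1} :=
    (hF.finite Ω (t ≫ ψ₁)).to_subtype
  refine Finite.of_injective (β := {x : Over.mk (t ≫ ψ₁) ⟶ Red.bc φ₁ A // ∀ j, pull (PicF.XTmap (f j) x) (c j) = 1})
    (fun x => ⟨(Over.map ψ₁).map ((Over.homMk x.1 x.2 : Over.mk t ⟶ L) ≫ i ≫ e.hom) ≫
      BaseTrans.proj φ₁ ψ₁ φ' hφ' A, fun j => ?_⟩) ?_
  · refine hk j _ _ ?_
    rw [Category.assoc, Category.assoc, ← hv1 j, hiu j]
    exact MonObj.comp_one _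
  · intro x y hxy
    have h1 := BaseTrans.proj_inj φ₁ ψ₁ φ' hφ' A (congrArg Subtype.val hxy)
    rw [← Category.assoc, ← Category.assoc, cancel_mono, cancel_mono] at h1
    exact Subtype.ext (congrArg (fun z => z.left) h1)

/-- Potential semistable reduction. -/
theorem main (h33 : Common.S3333Stmt.{u}) (h26 : S2226Stmt.{u}) (hNE : H736.Interface.NEAll.{u}) (hJK : JK.{u})
    (hFK : FK.{u}) (hCL : CLAIM.{u}) (hSUB : SUB.{u}) : PSSR.{u} :=
  main_inf h33 h26 hNE hJK (fun K _ _ A _ _ _ => hFK K A) hCL hSUB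

end Groth.Agent.Sga7.H734.PSSRAsm
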