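import Groth.Prelude.Def_SGA7IX
import Groth.Agent.Sga67.TorsionLift

/-!
# Geometric points and base change of the ground field

For `K ⊆ K' ⊆ Ω` and a `K`-group scheme `A`, the `Ω`-points of `A ×_K K'` are those of `A`, compatibly with the
group structures and the Galois actions.
-/

set_option autoImplicit false
universe u
open CategoryTheory CategoryTheory.Limits AlgebraicGeometry MonObj
open SGA7

namespace Groth.Agent.Sga7.H734.PtsBC

open Groth.Agent.Sga67.TorsionLift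

section

variable (K K' Ω : Type u) [Field K] [Field K'] [Algebra K K'] [Field Ω] [Algebra K Ω] [Algebra K' Ω]
  [IsScalarTower K K' Ω]

/-- `Spec K' ⟶ Spec K`. -/
noncomputable abbrev fKK : Spec (CommRingCat.of K') ⟶ Spec (CommRingCat.of K) :=
  Spec.map (CommRingCat.ofHom (algebraMap K K'))

/-- `Spec Ω` over `Spec K` via `Spec K'`. -/
noncomputable def ι₀ : pt (K := K) Ω ⟶ (Over.map (fKK K K')).obj (pt (K := K') Ω) :=
  Over.homMk (𝟙 _) (by
    dsimp [fKK]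
    rw [Category.id_comp, ← Spec.map_comp, ← CommRingCat.ofHom_comp, ← IsScalarTower.algebraMap_eq])

/-- Its inverse. -/
noncomputable def ι₁ : (Over.map (fKK K K')).obj (pt (K := K') Ω) ⟶ pt (K := K) Ω :=
  Over.homMk (𝟙 _) (by
    dsimp [fKK]
    rw [Category.id_comp, ← Spec.map_comp, ← CommRingCat.ofHom_comp, ← IsScalarTower.algebraMap_eq])

lemma ι₀_ι₁ : ι₀ K K' Ω ≫ ι₁ K K' Ω = 𝟙 _ := by
  ext1
  simp [ι₀, ι₁]

lemma ι₁_ι₀ : ι₁ K K' Ω ≫ ι₀ K K' Ω = 𝟙 _ := by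
  ext1
  simp [ι₀, ι₁]

lemma ι₀_specAut (σ : Ω ≃ₐ[K'] Ω) :
    ι₀ K K' Ω ≫ (Over.map (fKK K K')).map (specAut σ) = specAut (σ.restrictScalars K) ≫ ι₀ K K' Ω := by
  ext1
  simp only [ι₀, Over.comp_left, Over.homMk_left, Over.map_map_left]
  erw [Category.id_comp]

/-- The `Ω`-points of the base change. -/
noncomputable def toK (A : Over (Spec (CommRingCat.of K))) [GrpObj A] :
    Pts Ω (Red.bc (fKK K K') A) ≃* Pts Ω A :=
  MulEquiv.mk' ((((Over.mapPullbackAdj (fKK K K')).homEquiv (pt (K := K') Ω) A).symm).trans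
    { toFun := fun y => ι₀ K K' Ω ≫ y
      invFun := fun y => ι₁ K K' Ω ≫ y
      left_inv := fun y => by
        show ι₁ K K' Ω ≫ ι₀ K K' Ω ≫ y = y
        rw [← Category.assoc, ι₁_ι₀, Category.id_comp]
      right_inv := fun y => by
        show ι₀ K K' Ω ≫ ι₁ K K' Ω ≫ y = y
        rw [← Category.assoc, ι₀_ι₁, Category.id_comp] }) (fun a b => by
    have h := homEquiv_symm_mul (Over.mapPullbackAdj (fKK K K')) (B := A) a b
    show ι₀ K K' Ω ≫ ((Over.mapPullbackAdj (fKK K K')).homEquiv (pt (K := K') Ω) A).symm (a * b) = _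
    erw [h]
    exact MonObj.comp_mul _ _ _)

lemma toK_apply (A : Over (Spec (CommRingCat.of K))) [GrpObj A] (y : Pts Ω (Red.bc (fKK K K') A)) :
    toK K K' Ω A y = ι₀ K K' Ω ≫ ((Over.mapPullbackAdj (fKK K K')).homEquiv (pt (K := K') Ω) A).symm y := rfl

lemma toK_galAct (A : Over (Spec (CommRingCat.of K))) [GrpObj A] (σ : Ω ≃ₐ[K'] Ω)
    (y : Pts Ω (Red.bc (fKK K K') A)) :
    toK K K' Ω A (galAct σ y) = galAct (σ.restrictScalars K) (toK K K' Ω A y) := by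
  rw [toK_apply, toK_apply, galAct, galAct, ← Category.assoc, ← ι₀_specAut, Category.assoc]
  congr 1

lemma toK_dev (A : Over (Spec (CommRingCat.of K))) [GrpObj A] (σ : Ω ≃ₐ[K'] Ω)
    (y : Pts Ω (Red.bc (fKK K K') A)) :
    toK K K' Ω A (dev σ y) = dev (σ.restrictScalars K) (toK K K' Ω A y) := by
  rw [dev, dev, map_mul, map_inv, toK_galAct]

end

section act

variable {K Ω : Type u} [Field K] [Field Ω] [Algebra K Ω] {A : Over (Spec (CommRingCat.of K))}

lemma specAut_mul (σ τ : Ω ≃ₐ[K] Ω) : specAut (σ * τ) = specAut σ ≫ specAut τ := by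
  ext1
  show Spec.map _ = Spec.map _ ≫ Spec.map _
  rw [← Spec.map_comp, ← CommRingCat.ofHom_comp]
  rfl

lemma specAut_one : specAut (1 : Ω ≃ₐ[K] Ω) = 𝟙 _ := by
  ext1
  show Spec.map _ = 𝟙 _
  rw [← Spec.map_id]
  rfl

lemma galAct_mul_apply (σ τ : Ω ≃ₐ[K] Ω) (x : Pts Ω A) : galAct (σ * τ) x = galAct σ (galAct τ x) := by
  rw [galAct, galAct, galAct, specAut_mul, Category.assoc]

lemma galAct_one (x : Pts Ω A) : galAct (1 : Ω ≃ₐ[K] Ω) x = x := by
  rw [galAct, specAut_one, Category.id_comp]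

lemma galAct_mul [GrpObj A] (σ : Ω ≃ₐ[K] Ω) (x y : Pts Ω A) : galAct σ (x * y) = galAct σ x * galAct σ y :=
  MonObj.comp_mul _ _ _

lemma galAct_one' [GrpObj A] (σ : Ω ≃ₐ[K] Ω) : galAct σ (1 : Pts Ω A) = 1 :=
  MonObj.comp_one _

lemma galAct_inv [GrpObj A] (σ : Ω ≃ₐ[K] Ω) (x : Pts Ω A) : galAct σ x⁻¹ = (galAct σ x)⁻¹ :=
  GrpObj.comp_inv _ _

lemma galAct_pow [GrpObj A] (σ : Ω ≃ₐ[K] Ω) (x : Pts Ω A) (n : ℕ) : galAct σ (x ^ n) = galAct σ x ^ n :=
  MonObj.comp_pow _ _ _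

end act

end Groth.Agent.Sga7.H734.PtsBC
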