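import Mathlib.RingTheory.Adjoin.Basic
import Mathlib.Algebra.Algebra.Subalgebra.Lattice
import Mathlib.Tactic.Ring
import Mathlib.Algebra.Ring.Parity
import Mathlib.Data.Nat.Factorization.Basic
import Mathlib.Tactic.LinearCombination

/-!
# Serre's lemma for level two

In a ring `E` without `2`-torsion and with `⋂ 2 ^ n E = 0`, an element `u = 1 + 2 b` of finite multiplicative
order satisfies `u ^ 2 = 1`.
-/

set_option autoImplicit false

namespace Groth.Agent.Sga7.H734.SerreTwo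

theorem pow_odd {E : Type*} [CommRing E] (c : E) (n m : ℕ) (hm : m % 2 = 1) (hn : 1 ≤ n) :
    ∃ c' d : E, (1 + 2 ^ n * c) ^ m = 1 + 2 ^ n * c' ∧ c' = c + 2 * d := by
  induction m using Nat.strong_induction_on with
  | _ m ih =>
    obtain rfl | hm2 : m = 1 ∨ 3 ≤ m := by omega
    · exact ⟨c, 0, by ring, by ring⟩
    · obtain ⟨c', d, h1, h2⟩ := ih (m - 2) (by omega) (by omega)
      obtain ⟨k, rfl⟩ : ∃ k, n = k + 1 := ⟨n - 1, by omega⟩
      refine ⟨c' + (1 + 2 ^ (k + 1) * c') * (2 * c + 2 ^ (k + 1) * c ^ 2),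
        d + (1 + 2 ^ (k + 1) * c') * (c + 2 ^ k * c ^ 2), ?_, ?_⟩
      · have : m = (m - 2) + 2 := by omega
        rw [this, pow_add, h1]
        ring
      · rw [h2]
        ring

theorem pow_two_pow {E : Type*} [CommRing E] (a : ℕ) (c : E) (n : ℕ) (hn : 2 ≤ n) :
    ∃ c' d : E, (1 + 2 ^ n * c) ^ (2 ^ a) = 1 + 2 ^ (n + a) * c' ∧ c' = c + 2 * d := by
  induction a with
  | zero => exact ⟨c, 0, by ring, by ring⟩
  | succ a ih =>
    obtain ⟨c', d, h1, h2⟩ := ih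
    obtain ⟨k, rfl⟩ : ∃ k, n = k + 2 := ⟨n - 2, by omega⟩
    refine ⟨c' + 2 ^ (k + 1 + a) * c' ^ 2, d + 2 ^ (k + a) * c' ^ 2, ?_, ?_⟩
    · rw [pow_succ 2 a, pow_mul, h1]
      ring
    · rw [h2]
      ring

theorem sq_eq_one_comm {E : Type*} [CommRing E] (h2 : ∀ x : E, 2 * x = 0 → x = 0)
    (hsep : ∀ x : E, (∀ n : ℕ, ∃ y, x = 2 ^ n * y) → x = 0) (b : E) (m : ℕ) (hm : 0 < m)
    (h : (1 + 2 * b) ^ m = 1) : (1 + 2 * b) ^ 2 = 1 := by
  have h2' : ∀ (n : ℕ) (x : E), 2 ^ n * x = 0 → x = 0 := by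
    intro n
    induction n with
    | zero => intro x hx; simpa using hx
    | succ n ih => intro x hx; exact ih x (h2 _ (by rw [← hx]; ring))
  by_contra hcon
  have hne : (1 + 2 * b) ^ 2 - 1 ≠ 0 := sub_ne_zero.2 hcon
  have hex : ∃ n : ℕ, ¬ ∃ y, (1 + 2 * b) ^ 2 - 1 = 2 ^ n * y := by
    by_contra hall
    push Not at hall
    exact hne (hsep _ hall)
  classical
  have hmin := Nat.find_spec hex
  set r := Nat.find hex with hr
  have h4 : ∃ y, (1 + 2 * b) ^ 2 - 1 = 2 ^ 2 * y := ⟨b + b ^ 2, by ring⟩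
  have hr3 : 3 ≤ r := by
    by_contra hlt
    push Not at hlt
    obtain ⟨y, hy⟩ := h4
    apply hmin
    refine ⟨2 ^ (2 - r) * y, ?_⟩
    rw [hy, ← mul_assoc, ← pow_add]
    congr 2
    omega
  obtain ⟨c, hc⟩ : ∃ y, (1 + 2 * b) ^ 2 - 1 = 2 ^ (r - 1) * y := by
    have := Nat.find_min hex (m := r - 1) (by omega)
    push Not at this
    exact this
  have hc2 : ¬ ∃ d, c = 2 * d := by
    rintro ⟨d, rfl⟩
    apply hmin
    refine ⟨d, ?_⟩
    rw [hc, ← mul_assoc, ← pow_succ]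
    congr 2
    omega
  have hu : (1 + 2 * b) ^ 2 = 1 + 2 ^ (r - 1) * c := by rw [← hc]; ring
  obtain ⟨a, m', hm', rfl⟩ : ∃ a m', m' % 2 = 1 ∧ m = 2 ^ a * m' := by
    obtain ⟨a, m', h1, h2⟩ := Nat.exists_eq_two_pow_mul_odd hm.ne'
    exact ⟨a, m', Nat.odd_iff.1 h1, h2⟩
  obtain ⟨c', d, h5, h6⟩ := pow_odd c (r - 1) m' hm' (by omega)
  obtain ⟨c'', d', h7, h8⟩ := pow_two_pow a c' (r - 1) (by omega)
  have h9 : (1 : E) = 1 + 2 ^ (r - 1 + a) * c'' := by
    rw [← h7, ← h5, ← hu, ← pow_mul, ← pow_mul]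
    rw [show 2 * (m' * 2 ^ a) = (2 ^ a * m') * 2 by ring, pow_mul, h, one_pow]
  have h10 : c'' = 0 := h2' (r - 1 + a) _ (by linear_combination -h9)
  apply hc2
  refine ⟨- (d + d'), ?_⟩
  have : c = c'' - 2 * d - 2 * d' := by rw [h8, h6]; ring
  rw [this, h10]
  ring

/-- Serre's lemma, non commutative form. -/
theorem sq_eq_one {E : Type*} [Ring E] (h2 : ∀ x : E, 2 * x = 0 → x = 0)
    (hsep : ∀ x : E, (∀ n : ℕ, ∃ y, x = 2 ^ n * y) → x = 0) (b : E) (m : ℕ) (hm : 0 < m)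
    (h : (1 + 2 * b) ^ m = 1) : (1 + 2 * b) ^ 2 = 1 := by
  let S : Subalgebra ℤ E := Algebra.adjoin ℤ {b}
  letI : CommRing S := Algebra.adjoinCommRingOfComm ℤ (by
    intro x hx y hy
    rw [Set.mem_singleton_iff] at hx hy
    rw [hx, hy])
  have hb : b ∈ S := Algebra.subset_adjoin rfl
  have key := sq_eq_one_comm (E := S) (fun x hx => Subtype.ext (h2 _ (by
      have := congrArg Subtype.val hx
      exact this))) (fun x hx => Subtype.ext (hsep _ (fun n => by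
      obtain ⟨y, hy⟩ := hx n
      exact ⟨y, congrArg Subtype.val hy⟩))) ⟨b, hb⟩ m hm (Subtype.ext (by exact h))
  exact congrArg Subtype.val key

end Groth.Agent.Sga7.H734.SerreTwo
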