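import Groth.Agent.Sga7.H734.PtsBC
import Groth.Agent.Sga7.H734.ExpTwo

/-!
# The Galois module of `2`-power torsion points
-/

set_option autoImplicit false
universe u
open CategoryTheory CategoryTheory.Limits AlgebraicGeometry MonObj
open SGA7

namespace Groth.Agent.Sga7.H734.Tors

open PtsBC

variable {K Ω : Type u} [Field K] [Field Ω] [Algebra K Ω]

/-- The `2`-power torsion points. -/
def tors (Ω : Type u) [Field Ω] [Algebra K Ω] (A : Over (Spec (CommRingCat.of K))) [GrpObj A] [IsCommMonObj A] :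
    Subgroup (Pts Ω A) where
  carrier := {x | ∃ n : ℕ, x ^ (2 ^ n) = 1}
  mul_mem' := by
    rintro x y ⟨n, hn⟩ ⟨m, hm⟩
    refine ⟨n + m, ?_⟩
    rw [mul_pow, pow_add, pow_mul, hn, one_pow, _root_.one_mul, mul_comm, pow_mul, hm, one_pow]
  one_mem' := ⟨0, one_pow _⟩
  inv_mem' := by
    rintro x ⟨n, hn⟩
    exact ⟨n, by rw [inv_pow, hn, inv_one]⟩

variable {A : Over (Spec (CommRingCat.of K))} [GrpObj A] [IsCommMonObj A]

lemma galAct_mem (σ : Ω ≃ₐ[K] Ω) {x : Pts Ω A} (hx : x ∈ tors Ω A) : galAct σ x ∈ tors Ω A := by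
  obtain ⟨n, hn⟩ := hx
  exact ⟨n, by rw [← galAct_pow, hn, galAct_one']⟩

/-- The action of the Galois group on the `2`-power torsion points. -/
noncomputable def action (A : Over (Spec (CommRingCat.of K))) [GrpObj A] [IsCommMonObj A] :
    DistribMulAction (Ω ≃ₐ[K] Ω) (Additive (tors Ω A)) where
  smul σ x := Additive.ofMul ⟨galAct σ x.toMul.1, galAct_mem σ x.toMul.2⟩
  one_smul x := by
    apply Additive.toMul.injective
    exact Subtype.ext (galAct_one x.toMul.1)
  mul_smul σ τ x := by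
    apply Additive.toMul.injective
    exact Subtype.ext (galAct_mul_apply σ τ x.toMul.1)
  smul_zero σ := by
    apply Additive.toMul.injective
    exact Subtype.ext (galAct_one' σ)
  smul_add σ x y := by
    apply Additive.toMul.injective
    exact Subtype.ext (galAct_mul σ x.toMul.1 y.toMul.1)

/-- The group theoretic core: if `(σ - 1)(τ - 1)` kills the `2`-power torsion for `σ, τ` in a normal subgroup `N` of
finite index, and the Galois group is trivial on the `2`-torsion, the same holds for a normal subgroup `G' ⊇ N`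
containing all squares. -/
theorem exists_subgroup (hdiv : ∀ x : Pts Ω A, ∃ y : Pts Ω A, y ^ 2 = x)
    (h2 : ∀ (σ : Ω ≃ₐ[K] Ω) (x : Pts Ω A), x ^ 2 = 1 → galAct σ x = x)
    (N : Subgroup (Ω ≃ₐ[K] Ω)) [N.Normal] [N.FiniteIndex]
    (hN : ∀ (ν : ℕ), ∀ σ ∈ N, ∀ τ ∈ N, ∀ x : Pts Ω A, x ^ (2 ^ ν) = 1 → dev σ (dev τ x) = 1) :
    ∃ G' : Subgroup (Ω ≃ₐ[K] Ω), G'.Normal ∧ N ≤ G' ∧ (∀ g, g * g ∈ G') ∧
      ∀ (ν : ℕ), ∀ σ ∈ G', ∀ τ ∈ G', ∀ x : Pts Ω A, x ^ (2 ^ ν) = 1 → dev σ (dev τ x) = 1 := by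
  let _ := action (Ω := Ω) A
  have hsm : ∀ (σ : Ω ≃ₐ[K] Ω) (x : Additive (tors Ω A)), ((σ • x).toMul : tors Ω A).1 = galAct σ x.toMul.1 :=
    fun _ _ => rfl
  obtain ⟨G', h1, h3, h4, h5⟩ := ExpTwo.exists_subgroup (M := Additive (tors Ω A)) N (by
      intro x
      obtain ⟨y, hy⟩ := hdiv x.toMul.1
      obtain ⟨n, hn⟩ := x.toMul.2
      refine ⟨Additive.ofMul ⟨y, n + 1, ?_⟩, ?_⟩
      · rw [pow_succ, mul_comm, pow_mul, hy, hn]
      · apply Additive.toMul.injective
        exact Subtype.ext hy) (by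
      intro x
      obtain ⟨n, hn⟩ := x.toMul.2
      refine ⟨n, ?_⟩
      apply Additive.toMul.injective
      exact Subtype.ext hn) (by
      intro g x hx
      apply Additive.toMul.injective
      refine Subtype.ext (h2 g _ ?_)
      exact congrArg (fun z : Additive (tors Ω A) => (z.toMul : tors Ω A).1) hx) (by
      intro σ hσ τ hτ x
      obtain ⟨n, hn⟩ := x.toMul.2
      have := hN n σ hσ τ hτ _ hn
      apply Additive.toMul.injective
      apply Subtype.ext
      simp only [dev] at this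
      change galAct σ (galAct τ x.toMul.1 / x.toMul.1) / (galAct τ x.toMul.1 / x.toMul.1) = 1
      rw [div_eq_mul_inv, div_eq_mul_inv]
      exact this)
  refine ⟨G', h1, h3, h4, ?_⟩
  intro ν σ hσ τ hτ x hx
  have := h5 σ hσ τ hτ (Additive.ofMul ⟨x, ν, hx⟩)
  have h6 := congrArg (fun z : Additive (tors Ω A) => (z.toMul : tors Ω A).1) this
  simp only [dev]
  change galAct σ (galAct τ x / x) / (galAct τ x / x) = 1 at h6
  rw [div_eq_mul_inv, div_eq_mul_inv] at h6
  exact h6

end Groth.Agent.Sga7.H734.Tors
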